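import Mathlib.GroupTheory.PresentedGroup
import Mathlib.Tactic.Group

/-!
Certificates for equalities in a group generated by involutions satisfying the relations of a
simply laced Coxeter graph.  Words are stored in numbers, one hexadecimal digit for each letter
(the digit `0` stands for the identity).  A step deletes a square `a a` or applies a braid or
commutation move; a step that does not apply changes nothing.
-/

set_option autoImplicit false

namespace CfsgLib.CoxWord

/-- one step, coded as `2 p` (deletion at `p`) or `2 p + 1` (braid at `p`). -/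
def step (A : ℕ → ℕ → Bool) (op w : ℕ) : ℕ :=
  bif Nat.beq (op % 2) 0 then
    bif Nat.beq (w / 16 ^ (op / 2) % 16) (w / 16 ^ (op / 2) / 16 % 16) then
      w % 16 ^ (op / 2) + 16 ^ (op / 2) * (w / 16 ^ (op / 2) / 16 / 16)
    else w
  else
    bif A (w / 16 ^ (op / 2) % 16) (w / 16 ^ (op / 2) / 16 % 16) then
      bif Nat.beq (w / 16 ^ (op / 2) / 16 / 16 % 16) (w / 16 ^ (op / 2) % 16) then
        w % 16 ^ (op / 2) + 16 ^ (op / 2) * (w / 16 ^ (op / 2) / 16 % 16 +
          16 * (w / 16 ^ (op / 2) % 16 + 16 * (w / 16 ^ (op / 2) / 16 % 16 +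
            16 * (w / 16 ^ (op / 2) / 16 / 16 / 16))))
      else w
    else
      w % 16 ^ (op / 2) + 16 ^ (op / 2) * (w / 16 ^ (op / 2) / 16 % 16 +
        16 * (w / 16 ^ (op / 2) % 16 + 16 * (w / 16 ^ (op / 2) / 16 / 16)))

/-- continue with the value of a number. -/
def withVal {α : Sort*} (n : ℕ) (f : ℕ → α) : α :=
  match n with
  | 0 => f 0
  | m + 1 => f (m + 1)

theorem withVal_eq {α : Sort*} (n : ℕ) (f : ℕ → α) : withVal n f = f n := by
  cases n <;> rfl

/-- the steps packed in a number in base `2048`, least significant first. -/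
def runChunk (A : ℕ → ℕ → Bool) : ℕ → ℕ → ℕ → ℕ
  | 0, _, w => w
  | k + 1, code, w => withVal (step A (code % 2048) w) (runChunk A k (code / 2048))

/-- all chunks, each given with its number of steps. -/
def runAll (A : ℕ → ℕ → Bool) : List (ℕ × ℕ) → ℕ → ℕ
  | [], w => w
  | kc :: l, w => withVal (runChunk A kc.1 kc.2 w) (runAll A l)

/-- the number of a word; the letter `a` becomes the digit `a + 1`. -/
def enc : List ℕ → ℕ
  | [] => 0
  | a :: r => (a + 1) % 16 + 16 * enc r

/-- both words are rewritten to one word. -/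
def chk (A : ℕ → ℕ → Bool) (u : List ℕ) (p : List (ℕ × ℕ)) (v : List ℕ) (q : List (ℕ × ℕ)) :
    Bool :=
  u.all (fun a => Nat.blt a 15) && v.all (fun a => Nat.blt a 15) &&
    Nat.beq (withVal (enc u) (runAll A p)) (withVal (enc v) (runAll A q))

variable {G : Type*} [Group G]

/-- the product of a word. -/
def ev (g : ℕ → G) : List ℕ → G
  | [] => 1
  | a :: r => g (a + 1) * ev g r

/-- the relations of the graph `A` (on digits). -/
structure Rels (A : ℕ → ℕ → Bool) (g : ℕ → G) : Prop where
  zero : g 0 = 1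
  sq : ∀ a, g a * g a = 1
  comm : ∀ a b, A a b = false → g a * g b = g b * g a
  braid : ∀ a b, A a b = true → g a * g b * g a = g b * g a * g b

@[simp] theorem ev_nil (g : ℕ → G) : ev g [] = 1 := rfl

@[simp] theorem ev_cons (g : ℕ → G) (a : ℕ) (r : List ℕ) :
    ev g (a :: r) = g (a + 1) * ev g r := rfl

@[simp] theorem ev_append (g : ℕ → G) (u v : List ℕ) : ev g (u ++ v) = ev g u * ev g v := by
  induction u with
  | nil => simp
  | cons a r ih => simp [ih, mul_assoc]

/-- the product of the digits of a number. -/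
def evN (g : ℕ → G) (w : ℕ) : G :=
  if h : w = 0 then 1 else g (w % 16) * evN g (w / 16)
termination_by w
decreasing_by omega

/-- the product of the `p` lowest digits. -/
def evF (g : ℕ → G) : ℕ → ℕ → G
  | 0, _ => 1
  | p + 1, w => g (w % 16) * evF g p (w / 16)

variable {A : ℕ → ℕ → Bool} {g : ℕ → G}

theorem Rels.inv_eq (h : Rels A g) (a : ℕ) : (g a)⁻¹ = g a :=
  inv_eq_of_mul_eq_one_right (h.sq a)

theorem Rels.ev_reverse (h : Rels A g) (u : List ℕ) : ev g u.reverse = (ev g u)⁻¹ := by
  induction u with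
  | nil => simp
  | cons a r ih =>
    rw [List.reverse_cons, ev_append, ih, ev_cons, ev_cons, ev_nil, mul_one, mul_inv_rev, h.inv_eq]

theorem Rels.evN_unfold (h : Rels A g) (w : ℕ) : evN g w = g (w % 16) * evN g (w / 16) := by
  rcases eq_or_ne w 0 with rfl | hw
  · simp [evN, h.zero]
  · rw [evN, dif_neg hw]

theorem Rels.evN_split (h : Rels A g) : ∀ (p w : ℕ),
    evN g w = evF g p w * evN g (w / 16 ^ p) := by
  intro p
  induction p with
  | zero => intro w; simp [evF]
  | succ p ih =>
    intro w
    rw [h.evN_unfold w, ih (w / 16), evF, mul_assoc, Nat.div_div_eq_div_mul, pow_succ']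

theorem evF_add (p : ℕ) : ∀ (w r : ℕ), evF g p (w % 16 ^ p + 16 ^ p * r) = evF g p w := by
  induction p with
  | zero => intro w r; simp [evF]
  | succ p ih =>
    intro w r
    have h1 : w % 16 ^ (p + 1) = w % 16 + 16 * (w / 16 % 16 ^ p) := by
      rw [pow_succ', Nat.mod_mul]
    have h2 : w % 16 ^ (p + 1) + 16 ^ (p + 1) * r
        = w % 16 + 16 * (w / 16 % 16 ^ p + 16 ^ p * r) := by
      rw [h1, pow_succ']; ring
    rw [evF, evF, h2]
    have h3 : (w % 16 + 16 * (w / 16 % 16 ^ p + 16 ^ p * r)) % 16 = w % 16 := by omega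
    have h4 : (w % 16 + 16 * (w / 16 % 16 ^ p + 16 ^ p * r)) / 16
        = w / 16 % 16 ^ p + 16 ^ p * r := by omega
    rw [h3, h4, ih]

theorem Rels.evN_replace (h : Rels A g) (p w r : ℕ) (hr : evN g r = evN g (w / 16 ^ p)) :
    evN g (w % 16 ^ p + 16 ^ p * r) = evN g w := by
  have hpos : 0 < 16 ^ p := Nat.pow_pos (by omega)
  rw [h.evN_split p w, h.evN_split p (w % 16 ^ p + 16 ^ p * r), evF_add,
    Nat.add_mul_div_left _ _ hpos, Nat.div_eq_of_lt (Nat.mod_lt _ hpos), zero_add, hr]

theorem Rels.evN_digit (h : Rels A g) (a r : ℕ) (ha : a < 16) :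
    evN g (a + 16 * r) = g a * evN g r := by
  rw [h.evN_unfold]
  have h1 : (a + 16 * r) % 16 = a := by omega
  have h2 : (a + 16 * r) / 16 = r := by omega
  rw [h1, h2]

theorem Rels.evN_step (h : Rels A g) (op w : ℕ) : evN g (step A op w) = evN g w := by
  unfold step
  generalize op / 2 = p
  have e1 := h.evN_unfold (w / 16 ^ p)
  have e2 := h.evN_unfold (w / 16 ^ p / 16)
  have e3 := h.evN_unfold (w / 16 ^ p / 16 / 16)
  generalize ha : w / 16 ^ p % 16 = a at e1 ⊢
  generalize hb : w / 16 ^ p / 16 % 16 = b at e2 ⊢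
  have la : a < 16 := by omega
  have lb : b < 16 := by omega
  cases op % 2 with
  | zero =>
    cases hab : Nat.beq a b with
    | false => simp [hab]
    | true =>
      have hab' : a = b := Nat.eq_of_beq_eq_true hab
      simp only [Nat.beq, cond_true, hab]
      refine h.evN_replace p w _ ?_
      rw [e1, e2, ← mul_assoc, hab', h.sq, one_mul]
  | succ k =>
    cases hA : A a b with
    | false =>
      simp only [Nat.beq, cond_false, hA]
      refine h.evN_replace p w _ ?_
      rw [h.evN_digit _ _ lb, h.evN_digit _ _ la, e1, e2, ← mul_assoc, ← mul_assoc,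
        h.comm a b hA]
    | true =>
      generalize hc : w / 16 ^ p / 16 / 16 % 16 = c at e3 ⊢
      cases hca : Nat.beq c a with
      | false => simp [Nat.beq, hA, hca]
      | true =>
        have hca' : c = a := Nat.eq_of_beq_eq_true hca
        simp only [Nat.beq, cond_false, cond_true, hA, hca]
        refine h.evN_replace p w _ ?_
        rw [h.evN_digit _ _ lb, h.evN_digit _ _ la, h.evN_digit _ _ lb, e1, e2, e3, hca']
        simp only [← mul_assoc]
        rw [h.braid a b hA]

theorem Rels.evN_runChunk (h : Rels A g) : ∀ (k code w : ℕ),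
    evN g (runChunk A k code w) = evN g w := by
  intro k
  induction k with
  | zero => intro code w; rfl
  | succ k ih => intro code w; rw [runChunk, withVal_eq, ih, h.evN_step]

theorem Rels.evN_runAll (h : Rels A g) : ∀ (l : List (ℕ × ℕ)) (w : ℕ),
    evN g (runAll A l w) = evN g w := by
  intro l
  induction l with
  | nil => intro w; rfl
  | cons kc l ih => intro w; rw [runAll, withVal_eq, ih, h.evN_runChunk]

theorem Rels.evN_enc (h : Rels A g) : ∀ u : List ℕ, (∀ a ∈ u, a < 15) →
    evN g (enc u) = ev g u := by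
  intro u
  induction u with
  | nil => intro _; simp [enc, evN]
  | cons a r ih =>
    intro hu
    have ha : a + 1 < 16 := Nat.succ_lt_succ (hu a (List.mem_cons_self ..))
    rw [enc, Nat.mod_eq_of_lt ha, h.evN_digit _ _ ha, ev_cons,
      ih fun b hb => hu b (List.mem_cons_of_mem _ hb)]

theorem Rels.ev_of_chk (h : Rels A g) {u v : List ℕ} {p q : List (ℕ × ℕ)}
    (hc : chk A u p v q = true) : ev g u = ev g v := by
  simp only [chk, withVal_eq, Bool.and_eq_true, List.all_eq_true] at hc
  obtain ⟨⟨hu, hv⟩, he⟩ := hc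
  have hu' : ∀ a ∈ u, a < 15 := fun a ha => Nat.le_of_ble_eq_true (hu a ha)
  have hv' : ∀ a ∈ v, a < 15 := fun a ha => Nat.le_of_ble_eq_true (hv a ha)
  calc ev g u = evN g (runAll A p (enc u)) := by rw [h.evN_runAll, h.evN_enc u hu']
    _ = evN g (runAll A q (enc v)) := by rw [Nat.eq_of_beq_eq_true he]
    _ = ev g v := by rw [h.evN_runAll, h.evN_enc v hv']

end CfsgLib.CoxWord
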