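import Cfsg.Agent.Lib.CoxWord.Triple.Split
import Cfsg.Agent.Lib.CoxWord.Triple.FiWord
import Cfsg.Agent.Lib.PGroup.StemExtension
import Cfsg.Prelude.Def_Spor_Fi23
import Mathlib.GroupTheory.OrderOfElement
import Mathlib.GroupTheory.QuotientGroup.Basic
import Mathlib.Algebra.Group.Commute.Basic

/-!
The Schur multiplier of the Fischer group `Fi23` is trivial: in a central extension the lifts of
the ten generators can be chosen so that all relations of the presentation hold.
-/

set_option autoImplicit false

namespace CfsgLib.CoxWord.FiMultiplier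

open CfsgLib.CoxWord CfsgLib.CoxWord.Y555
open Cfsg.Spor (coxLabel coxNodes)
open scoped commutatorElement
open Cfsg.Spor.Fi23 (Gen edges)

local notation "Q" => Cfsg.Spor.Fi23

/-- the generators of the presented group. -/
def gen (a : Gen) : Q := PresentedGroup.of a

theorem gen_rel (a b : Gen) : (gen a * gen b) ^ coxLabel edges a b = 1 := by
  have hx : ∀ z : Gen, z ∈ coxNodes edges := by intro z; cases z <;> decide
  exact PresentedGroup.one_of_mem (x := (FreeGroup.of a * FreeGroup.of b) ^ coxLabel edges a b)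
    (Or.inl ⟨a, hx a, b, hx b, rfl⟩)

theorem gen_sq (a : Gen) : gen a * gen a = 1 := by
  have h := gen_rel a a
  simpa [coxLabel] using h

theorem gen_comm {a b : Gen} (h2 : coxLabel edges a b = 2) : gen a * gen b = gen b * gen a := by
  have h := gen_rel a b
  rw [h2, pow_two] at h
  calc gen a * gen b = (gen a * gen b)⁻¹ := eq_inv_of_mul_eq_one_left h
    _ = _ := by rw [mul_inv_rev, inv_eq_of_mul_eq_one_right (gen_sq a),
      inv_eq_of_mul_eq_one_right (gen_sq b)]

theorem gen_braid {a b : Gen} (h3 : coxLabel edges a b = 3) :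
    gen a * gen b * gen a = gen b * gen a * gen b := by
  have h := gen_rel a b
  rw [h3, pow_three] at h
  have h' : gen a * gen b * gen a * (gen b * gen a * gen b) = 1 := by simpa [mul_assoc] using h
  calc gen a * gen b * gen a = (gen b * gen a * gen b)⁻¹ := eq_inv_of_mul_eq_one_left h'
    _ = _ := by rw [mul_inv_rev, mul_inv_rev, inv_eq_of_mul_eq_one_right (gen_sq a),
      inv_eq_of_mul_eq_one_right (gen_sq b), ← mul_assoc]

section

variable {H : Type} [Group H] {π : H →* Q}

theorem central_mem (hker : π.ker ≤ Subgroup.center H) {u : H} (hu : π u = 1) (w : H) :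
    u * w = w * u :=
  ((Subgroup.mem_center_iff.mp (hker hu)) w).symm

theorem adjust (hker : π.ker ≤ Subgroup.center H) {p q : H}
    (h : π p * π q * π p = π q * π p * π q) :
    ∃ q', π q' = π q ∧ p * q' * p = q' * p * q' := by
  set k := (q * p * q)⁻¹ * (p * q * p) with hk
  have hπ : π k = 1 := by
    rw [hk, map_mul, map_inv]
    simp only [map_mul]
    rw [h, inv_mul_cancel]
  have hc := central_mem hker hπ
  refine ⟨q * k, by rw [map_mul, hπ, mul_one], ?_⟩
  have e : q * p * q * k = p * q * p := by rw [hk, mul_inv_cancel_left]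
  calc p * (q * k) * p = p * q * p * k := by rw [← mul_assoc, mul_assoc _ k p, hc p, ← mul_assoc]
    _ = q * p * q * k * k := by rw [e]
    _ = q * (k * (p * q)) * k := by rw [hc (p * q)]; group
    _ = q * k * p * (q * k) := by group

theorem sq_eq (hker : π.ker ≤ Subgroup.center H) {p q : H} (hp : π (p * p) = 1)
    (h : p * q * p = q * p * q) : q * q = p * p := by
  have e : q = p * q * p * (p * q)⁻¹ := by rw [h]; group
  calc q * q = p * q * p * (p * q)⁻¹ * (p * q * p * (p * q)⁻¹) := by rw [← e]
    _ = p * q * (p * p) * (p * q)⁻¹ := by group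
    _ = p * p := by rw [← central_mem hker hp (p * q), mul_inv_cancel_right]

theorem comm_value (hker : π.ker ≤ Subgroup.center H) {p l m k : H} (hk : π k = 1) (hl : l * l = 1)
    (hbr : l * m * l = m * l * m) (hpl : p * l * p⁻¹ = l * k)
    (hpm : π p * π m = π m * π p) : p * m * p⁻¹ = m * k := by
  set e := m⁻¹ * (p * m * p⁻¹) with he
  have hπ : π e = 1 := by
    rw [he, map_mul, map_mul, map_mul, map_inv, map_inv, hpm]; group
  have hc := central_mem hker hπ
  have hd := central_mem hker hk
  have em : p * m * p⁻¹ = m * e := by rw [he, mul_inv_cancel_left]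
  have elm : m = l * m * l * (l * m)⁻¹ := by rw [hbr]; group
  have hk' : ∀ w : H, k⁻¹ * w = w * k⁻¹ := fun w =>
    central_mem hker (u := k⁻¹) (by rw [map_inv, hk, inv_one]) w
  have he' : ∀ w : H, e⁻¹ * w = w * e⁻¹ := fun w =>
    central_mem hker (u := e⁻¹) (by rw [map_inv, hπ, inv_one]) w
  calc p * m * p⁻¹ = p * (l * m * l * (l * m)⁻¹) * p⁻¹ := by rw [← elm]
    _ = p * l * p⁻¹ * (p * m * p⁻¹) * (p * l * p⁻¹) * ((p * l * p⁻¹) * (p * m * p⁻¹))⁻¹ := by
        group
    _ = l * k * (m * e) * (l * k) * (l * k * (m * e))⁻¹ := by rw [hpl, em]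
    _ = l * (k * m) * (e * l) * k * (e⁻¹ * m⁻¹) * k⁻¹ * l⁻¹ := by group
    _ = l * m * (k * l) * (e * k) * (e⁻¹ * m⁻¹) * (k⁻¹ * l⁻¹) := by rw [hd m, hc l]; group
    _ = l * m * l * k * k * (m⁻¹ * l⁻¹ * k⁻¹) := by rw [hc k, hd l, hk' l⁻¹]; group
    _ = l * m * l * k * (k * (m⁻¹ * l⁻¹) * k⁻¹) := by group
    _ = l * m * l * k * (m⁻¹ * l⁻¹) := by rw [hd (m⁻¹ * l⁻¹), mul_inv_cancel_right]
    _ = l * m * l * (k * (m⁻¹ * l⁻¹)) := by group
    _ = m * k := by
      rw [hd (m⁻¹ * l⁻¹)]
      conv_rhs => rw [elm]
      group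

theorem comm_move (hker : π.ker ≤ Subgroup.center H) {p l m : H} (hl : l * l = 1)
    (hbr : l * m * l = m * l * m) (hpl : Commute p l) (hpm : π p * π m = π m * π p) :
    Commute p m := by
  have h := comm_value hker (k := 1) (map_one π) hl hbr (by rw [hpl.eq, mul_inv_cancel_right, mul_one]) hpm
  rw [mul_one] at h
  exact mul_inv_eq_iff_eq_mul.mp h

/-- digits to generators: `f1` is isolated. -/
def digit : ℕ → Option Gen
  | 1 => some .d | 2 => some .e | 3 => some .f | 4 => some .g | 5 => some .j
  | 7 => some .c | 8 => some .b | 9 => some .a | 10 => some .h | 11 => some .i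
  | _ => none

/-- relations on digits from relations on generators. -/
theorem rels_of {A : ℕ → ℕ → Bool} (d : ℕ → Option Gen) (h0 : d 0 = none)
    (hbig : ∀ a, 12 ≤ a → d a = none) (hA : ∀ a b, A a b = true → a < 12 ∧ b < 12)
    (hch : (List.range 12).all (fun a => (List.range 12).all fun b =>
      match d a, d b with
      | some p, some q => if p = q then !A a b else
          Nat.beq (coxLabel edges p q) (if A a b then 3 else 2)
      | _, _ => !A a b) = true)
    (y : Gen → H) (hsq : ∀ a, y a * y a = 1)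
    (hbr : ∀ a b, coxLabel edges a b = 3 → y a * y b * y a = y b * y a * y b)
    (hall : ∀ a b : Gen, coxLabel edges a b = 2 → Commute (y a) (y b)) :
    Rels A (fun n => (d n).elim 1 y) := by
  simp only [List.all_eq_true] at hch
  refine ⟨by simp [h0], fun a => ?_, fun a b hab => ?_, fun a b hab => ?_⟩
  · cases h : d a with
    | none => simp [h]
    | some p => simpa [h] using hsq p
  · cases ha : d a with
    | none => simp [ha]
    | some p =>
      cases hb : d b with
      | none => simp [hb]
      | some q =>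
        have la : a < 12 := by
          by_contra hc
          rw [hbig a (by omega)] at ha; cases ha
        have lb : b < 12 := by
          by_contra hc
          rw [hbig b (by omega)] at hb; cases hb
        have h := hch a (List.mem_range.mpr la) b (List.mem_range.mpr lb)
        simp only [ha, hb] at h
        by_cases hpq : p = q
        · subst hpq; simp [ha, hb]
        · rw [if_neg hpq, hab] at h
          simpa [ha, hb] using (hall p q (Nat.eq_of_beq_eq_true h)).eq
  · obtain ⟨la, lb⟩ := hA a b hab
    have h := hch a (List.mem_range.mpr la) b (List.mem_range.mpr lb)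
    cases ha : d a with
    | none => simp [ha, hab] at h
    | some p =>
      cases hb : d b with
      | none => simp [ha, hb, hab] at h
      | some q =>
        simp only [ha, hb] at h
        by_cases hpq : p = q
        · subst hpq; simp [hab] at h
        · rw [if_neg hpq, hab] at h
          simpa [ha, hb] using hbr p q (Nat.eq_of_beq_eq_true h)

theorem adjB_lt (a b : ℕ) (h : adjB a b = true) : a < 12 ∧ b < 12 := by
  simp only [adjB, adj, Bool.and_eq_true] at h
  exact ⟨Nat.le_of_ble_eq_true h.2.1.1, Nat.le_of_ble_eq_true h.2.1.2⟩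

theorem adjC_lt (a b : ℕ) (h : adjC a b = true) : a < 12 ∧ b < 12 := by
  simp only [adjC, Bool.and_eq_true] at h
  exact adjB_lt a b h.2

/-- digits to generators, with the short arms exchanged and `f1`, `d2` isolated. -/
def digitC : ℕ → Option Gen
  | 1 => some .d | 2 => some .e | 3 => some .f | 4 => some .g | 5 => some .j
  | 7 => some .h | 8 => some .i | 10 => some .c | 11 => some .b
  | _ => none

theorem digit_big (a : ℕ) (ha : 12 ≤ a) : digit a = none ∧ digitC a = none := by
  obtain ⟨b, rfl⟩ := Nat.exists_eq_add_of_le ha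
  rw [Nat.add_comm]; exact ⟨rfl, rfl⟩

theorem section_of_involutions (hker : π.ker ≤ Subgroup.center H) (y : Gen → H)
    (hπ : ∀ a, π (y a) = gen a) (hsq : ∀ a, y a * y a = 1)
    (hbr : ∀ a b, coxLabel edges a b = 3 → y a * y b * y a = y b * y a * y b) :
    ∃ φ : Q →* H, π.comp φ = MonoidHom.id Q := by
  have hco : ∀ a b, coxLabel edges a b = 2 → π (y a) * π (y b) = π (y b) * π (y a) := fun a b h => by
    rw [hπ, hπ]; exact gen_comm h
  set W := y .a * y .b * y .c * y .d * y .e * y .f * y .h with hW
  have hu : π (W ^ 9) = 1 := by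
    rw [hW, map_pow]
    simp only [map_mul, hπ]
    exact PresentedGroup.one_of_mem
      (x := (Cfsg.Spor.Fi23.a * Cfsg.Spor.Fi23.b * Cfsg.Spor.Fi23.c * Cfsg.Spor.Fi23.d *
        Cfsg.Spor.Fi23.e * Cfsg.Spor.Fi23.f * Cfsg.Spor.Fi23.h) ^ 9)
      (Or.inr (List.mem_cons_of_mem _ (List.mem_singleton_self _)))
  obtain ⟨k, hk⟩ : ∃ k, k = (y .d)⁻¹ * (y .j * y .d * (y .j)⁻¹) := ⟨_, rfl⟩
  have hkπ : π k = 1 := by
    rw [hk, map_mul, map_mul, map_mul, map_inv, map_inv, hco .j .d (by decide)]; group
  have kc := central_mem hker hkπ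
  have ud : y .j * y .d * (y .j)⁻¹ = y .d * k := by rw [hk, mul_inv_cancel_left]
  have uc := comm_value hker hkπ (hsq .d) (hbr .d .c (by decide)) ud (hco .j .c (by decide))
  have ub := comm_value hker hkπ (hsq .c) (hbr .c .b (by decide)) uc (hco .j .b (by decide))
  have ua := comm_value hker hkπ (hsq .b) (hbr .b .a (by decide)) ub (hco .j .a (by decide))
  have ue := comm_value hker hkπ (hsq .d) (hbr .d .e (by decide)) ud (hco .j .e (by decide))
  have uf := comm_value hker hkπ (hsq .e) (hbr .e .f (by decide)) ue (hco .j .f (by decide))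
  have uh := comm_value hker hkπ (hsq .d) (hbr .d .h (by decide)) ud (hco .j .h (by decide))
  have hjj := inv_eq_of_mul_eq_one_right (hsq .j)
  have k2 : k * k = 1 := by
    have e : y .j * (y .d * k) * (y .j)⁻¹ = y .d := by
      rw [← ud, hjj]
      calc y .j * (y .j * y .d * y .j) * y .j = y .j * y .j * y .d * (y .j * y .j) := by group
        _ = y .d := by rw [hsq, one_mul, mul_one]
    rw [← mul_assoc, mul_assoc _ k, kc, ← mul_assoc, ud, mul_assoc] at e
    exact mul_left_cancel (e.trans (mul_one _).symm)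
  have kW : y .j * W * (y .j)⁻¹ = W * k ^ 7 := by
    have hc : ∀ w : H, Commute k w := fun w => kc w
    calc y .j * W * (y .j)⁻¹ = (y .j * y .a * (y .j)⁻¹) * (y .j * y .b * (y .j)⁻¹) *
          (y .j * y .c * (y .j)⁻¹) * (y .j * y .d * (y .j)⁻¹) * (y .j * y .e * (y .j)⁻¹) *
          (y .j * y .f * (y .j)⁻¹) * (y .j * y .h * (y .j)⁻¹) := by rw [hW]; group
      _ = W * k ^ 7 := by
        rw [ua, ub, uc, ud, ue, uf, uh, hW]
        simp only [pow_succ, pow_zero, one_mul, mul_assoc, (hc _).left_comm]
  have k1 : k = 1 := by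
    have h1 : y .j * W ^ 9 * (y .j)⁻¹ = W ^ 9 := by
      rw [← central_mem hker hu, mul_inv_cancel_right]
    rw [← conj_pow, kW, Commute.mul_pow (kc _ |> fun h => (show Commute k W from h).symm.pow_right 7),
      ← pow_mul] at h1
    have h2 : k ^ (7 * 9) = 1 := mul_left_cancel (h1.trans (mul_one _).symm)
    calc k = k * (k * k) ^ 31 := by rw [k2, one_pow, mul_one]
      _ = k ^ (7 * 9) := by rw [← pow_two, ← pow_mul, ← pow_succ']
      _ = 1 := h2
  have toComm : ∀ {l : Gen}, y .j * y l * (y .j)⁻¹ = y l * k → Commute (y .j) (y l) := fun h => by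
    rw [k1, mul_one] at h
    exact mul_inv_eq_iff_eq_mul.mp h
  have hjd := toComm ud
  have hjc := toComm uc
  have hjb := toComm ub
  have hja := toComm ua
  have hje := toComm ue
  have hjf := toComm uf
  have hjh := toComm uh
  have hdg : Commute (y .d) (y .g) := comm_move hker (hsq .j) (hbr .j .g (by decide)) ((hjd).symm) (hco .d .g (by decide))
  have hcg : Commute (y .c) (y .g) := comm_move hker (hsq .j) (hbr .j .g (by decide)) ((hjc).symm) (hco .c .g (by decide))
  have hbg : Commute (y .b) (y .g) := comm_move hker (hsq .j) (hbr .j .g (by decide)) ((hjb).symm) (hco .b .g (by decide))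
  have hag : Commute (y .a) (y .g) := comm_move hker (hsq .j) (hbr .j .g (by decide)) ((hja).symm) (hco .a .g (by decide))
  have heg : Commute (y .e) (y .g) := comm_move hker (hsq .j) (hbr .j .g (by decide)) ((hje).symm) (hco .e .g (by decide))
  have hji : Commute (y .j) (y .i) := comm_move hker (hsq .h) (hbr .h .i (by decide)) (hjh) (hco .j .i (by decide))
  have hhg : Commute (y .h) (y .g) := comm_move hker (hsq .j) (hbr .j .g (by decide)) ((hjh).symm) (hco .h .g (by decide))
  have hdf : Commute (y .d) (y .f) := comm_move hker (hsq .g) (hbr .g .f (by decide)) (hdg) (hco .d .f (by decide))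
  have hcf : Commute (y .c) (y .f) := comm_move hker (hsq .g) (hbr .g .f (by decide)) (hcg) (hco .c .f (by decide))
  have hbf : Commute (y .b) (y .f) := comm_move hker (hsq .g) (hbr .g .f (by decide)) (hbg) (hco .b .f (by decide))
  have haf : Commute (y .a) (y .f) := comm_move hker (hsq .g) (hbr .g .f (by decide)) (hag) (hco .a .f (by decide))
  have hig : Commute (y .i) (y .g) := comm_move hker (hsq .j) (hbr .j .g (by decide)) ((hji).symm) (hco .i .g (by decide))
  have hhf : Commute (y .h) (y .f) := comm_move hker (hsq .g) (hbr .g .f (by decide)) (hhg) (hco .h .f (by decide))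
  have hce : Commute (y .c) (y .e) := comm_move hker (hsq .f) (hbr .f .e (by decide)) (hcf) (hco .c .e (by decide))
  have hbe : Commute (y .b) (y .e) := comm_move hker (hsq .f) (hbr .f .e (by decide)) (hbf) (hco .b .e (by decide))
  have hae : Commute (y .a) (y .e) := comm_move hker (hsq .f) (hbr .f .e (by decide)) (haf) (hco .a .e (by decide))
  have hif : Commute (y .i) (y .f) := comm_move hker (hsq .g) (hbr .g .f (by decide)) (hig) (hco .i .f (by decide))
  have hhe : Commute (y .h) (y .e) := comm_move hker (hsq .f) (hbr .f .e (by decide)) (hhf) (hco .h .e (by decide))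
  have hbd : Commute (y .b) (y .d) := comm_move hker (hsq .e) (hbr .e .d (by decide)) (hbe) (hco .b .d (by decide))
  have had : Commute (y .a) (y .d) := comm_move hker (hsq .e) (hbr .e .d (by decide)) (hae) (hco .a .d (by decide))
  have hie : Commute (y .i) (y .e) := comm_move hker (hsq .f) (hbr .f .e (by decide)) (hif) (hco .i .e (by decide))
  have hbh : Commute (y .b) (y .h) := comm_move hker (hsq .d) (hbr .d .h (by decide)) (hbd) (hco .b .h (by decide))
  have hac : Commute (y .a) (y .c) := comm_move hker (hsq .d) (hbr .d .c (by decide)) (had) (hco .a .c (by decide))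
  have hah : Commute (y .a) (y .h) := comm_move hker (hsq .d) (hbr .d .h (by decide)) (had) (hco .a .h (by decide))
  have hid : Commute (y .i) (y .d) := comm_move hker (hsq .e) (hbr .e .d (by decide)) (hie) (hco .i .d (by decide))
  have hbi : Commute (y .b) (y .i) := comm_move hker (hsq .h) (hbr .h .i (by decide)) (hbh) (hco .b .i (by decide))
  have hhc : Commute (y .h) (y .c) := comm_move hker (hsq .b) (hbr .b .c (by decide)) ((hbh).symm) (hco .h .c (by decide))
  have hai : Commute (y .a) (y .i) := comm_move hker (hsq .h) (hbr .h .i (by decide)) (hah) (hco .a .i (by decide))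
  have hic : Commute (y .i) (y .c) := comm_move hker (hsq .d) (hbr .d .c (by decide)) (hid) (hco .i .c (by decide))
  have hall : ∀ a b : Gen, coxLabel edges a b = 2 → Commute (y a) (y b) := by
    intro a b
    cases a <;> cases b <;> intro h <;> first
    | exact absurd h (by decide)
    | exact hjd | exact hjd.symm
    | exact hjc | exact hjc.symm
    | exact hjb | exact hjb.symm
    | exact hja | exact hja.symm
    | exact hje | exact hje.symm
    | exact hjf | exact hjf.symm
    | exact hjh | exact hjh.symm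
    | exact hdg | exact hdg.symm
    | exact hcg | exact hcg.symm
    | exact hbg | exact hbg.symm
    | exact hag | exact hag.symm
    | exact heg | exact heg.symm
    | exact hji | exact hji.symm
    | exact hhg | exact hhg.symm
    | exact hdf | exact hdf.symm
    | exact hcf | exact hcf.symm
    | exact hbf | exact hbf.symm
    | exact haf | exact haf.symm
    | exact hig | exact hig.symm
    | exact hhf | exact hhf.symm
    | exact hce | exact hce.symm
    | exact hbe | exact hbe.symm
    | exact hae | exact hae.symm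
    | exact hif | exact hif.symm
    | exact hhe | exact hhe.symm
    | exact hbd | exact hbd.symm
    | exact had | exact had.symm
    | exact hie | exact hie.symm
    | exact hbh | exact hbh.symm
    | exact hac | exact hac.symm
    | exact hah | exact hah.symm
    | exact hid | exact hid.symm
    | exact hbi | exact hbi.symm
    | exact hhc | exact hhc.symm
    | exact hai | exact hai.symm
    | exact hic | exact hic.symm
  have rels : Rels adjB (fun n => (digit n).elim 1 y) := rels_of digit rfl
    (fun a ha => (digit_big a ha).1) adjB_lt (by decide +kernel) y hsq hbr hall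
  have relsC : Rels adjC (fun n => (digitC n).elim 1 y) := rels_of digitC rfl
    (fun a ha => (digit_big a ha).2) adjC_lt (by decide +kernel) y hsq hbr hall
  -- the spider relation
  set S := y .d * y .e * y .f * y .d * y .c * y .b * y .d * y .h * y .i with hS
  set T := y .d * y .c * y .b * y .d * y .e * y .f * y .d * y .h * y .i with hT
  have hT1 : π (T ^ 10) = 1 := by
    rw [hT, map_pow]
    simp only [map_mul, hπ]
    exact PresentedGroup.one_of_mem
      (x := (Cfsg.Spor.Fi23.d * Cfsg.Spor.Fi23.c * Cfsg.Spor.Fi23.b * Cfsg.Spor.Fi23.d *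
        Cfsg.Spor.Fi23.e * Cfsg.Spor.Fi23.f * Cfsg.Spor.Fi23.d * Cfsg.Spor.Fi23.h *
        Cfsg.Spor.Fi23.i) ^ 10) (Or.inr (List.mem_cons_self ..))
  have hspider : T ^ 10 = 1 := by
    have e : ev (fun n => (digitC n).elim 1 y) spW =
        (y .d * y .c * y .b)⁻¹ * T * (y .d * y .c * y .b) := by
      simp only [spW, digitC, ev_cons, ev_nil, Option.elim_some, mul_one]
      rw [hT]; group
    have hp : ev (fun n => (digitC n).elim 1 y) spW ^ 10 = T ^ 10 := by
      have e2 : ((y .d * y .c * y .b)⁻¹ * T * (y .d * y .c * y .b)) ^ 10 =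
          (y .d * y .c * y .b)⁻¹ * T ^ 10 * (y .d * y .c * y .b) := by
        simpa using conj_pow (i := 10) (a := (y .d * y .c * y .b)⁻¹) (b := T)
      rw [e, e2, ← central_mem hker hT1, inv_mul_cancel_right]
    have h := Triple.spider_eq_one relsC (by rw [hp]; exact hker hT1)
    rw [hp] at h
    exact h
  have hu2 : W ^ 9 * W ^ 9 = 1 := by
    have h := Triple.fiW_sq rels
    rw [Triple.ev_pw, ev_nil] at h
    have e : ev (fun n => (digit n).elim 1 y) Triple.fiW = W := by
      simp [Triple.fiW, ev_cons, digit, hW, mul_assoc]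
    rw [e] at h
    rw [← pow_add]; exact h
  generalize hu' : W ^ 9 = u at hu hu2
  have uc' : ∀ w : H, Commute u w := fun w => central_mem hker hu w
  obtain ⟨φ, hφ⟩ : ∃ φ : Q →* H, ∀ a, φ (PresentedGroup.of a) = y a * u := by
    refine ⟨PresentedGroup.toGroup (f := fun a => y a * u) ?_, fun a => PresentedGroup.toGroup.of _⟩
    intro r hr
    have hsq' : ∀ a, y a * u * (y a * u) = 1 := fun a => by
      calc y a * u * (y a * u) = y a * (u * y a) * u := by group
        _ = y a * y a * (u * u) := by rw [(uc' _).eq]; group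
        _ = 1 := by rw [hsq, hu2, one_mul]
    rcases hr with ⟨a, -, b, -, rfl⟩ | hr
    · rw [map_pow, map_mul, FreeGroup.lift_apply_of, FreeGroup.lift_apply_of]
      have hd : (a = b ∧ coxLabel edges a b = 1) ∨ coxLabel edges a b = 2 ∨ coxLabel edges a b = 3 := by
        cases a <;> cases b <;> decide
      have e : y a * u * (y b * u) = y a * y b := by
        calc y a * u * (y b * u) = y a * (u * y b) * u := by group
          _ = y a * y b * (u * u) := by rw [(uc' _).eq]; group
          _ = y a * y b := by rw [hu2, mul_one]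
      rw [e]
      rcases hd with ⟨rfl, h⟩ | h | h <;> rw [h]
      · rw [pow_one]; exact hsq a
      · calc (y a * y b) ^ 2 = y a * y b * (y a * y b) := pow_two _
          _ = y a * y b * (y b * y a) := by rw [(hall a b h).eq]
          _ = y a * (y b * y b) * y a := by group
          _ = 1 := by rw [hsq, mul_one, hsq]
      · calc (y a * y b) ^ 3 = (y a * y b * y a) * (y b * y a * y b) := by
              rw [pow_three]; group
          _ = (y a * y b * y a) * (y a * y b * y a) := by rw [hbr a b h]
          _ = y a * y b * (y a * y a) * y b * y a := by group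
          _ = y a * (y b * y b) * y a := by rw [hsq, mul_one]; group
          _ = 1 := by rw [hsq, mul_one, hsq]
    · simp only [Cfsg.Spor.Fi23.extra, List.mem_cons, List.not_mem_nil, or_false, Set.mem_setOf_eq] at hr
      have hc : ∀ w : H, u * w = w * u := fun w => (uc' w).eq
      rcases hr with rfl | rfl
      · simp only [map_pow, map_mul, FreeGroup.lift_apply_of]
        have e : y .d * u * (y .c * u) * (y .b * u) * (y .d * u) * (y .e * u) * (y .f * u) *
            (y .d * u) * (y .h * u) * (y .i * u) = T * u ^ 9 := by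
          rw [hT]
          simp only [pow_succ, pow_zero, one_mul, mul_assoc, (uc' _).left_comm]
        rw [e, ((uc' T).symm.pow_right 9).mul_pow, hspider, one_mul, ← pow_mul, show 9 * 10 = 2 * 45 from rfl,
          pow_mul, pow_two, hu2, one_pow]
      · simp only [map_pow, map_mul, FreeGroup.lift_apply_of]
        have e : y .a * u * (y .b * u) * (y .c * u) * (y .d * u) * (y .e * u) * (y .f * u) *
            (y .h * u) = W * u ^ 7 := by
          rw [hW]
          simp only [pow_succ, pow_zero, one_mul, mul_assoc, (uc' _).left_comm]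
        rw [e, ((uc' W).symm.pow_right 7).mul_pow, hu', ← pow_mul, ← pow_succ',
          show 7 * 9 + 1 = 2 * 32 from rfl, pow_mul, pow_two, hu2, one_pow]
  refine ⟨φ, PresentedGroup.ext fun a => ?_⟩
  rw [MonoidHom.comp_apply, hφ, map_mul, hπ, hu, mul_one]
  rfl

end

theorem ker_eq_bot {Γ : Type} [Group Γ] [Finite Γ] (σ : Γ →* Q) (hσ : Cfsg.IsStemExtension σ) :
    σ.ker = ⊥ := by
  obtain ⟨hsur, hker, hcom⟩ := hσ
  choose x0 hx0 using fun a => hsur (gen a)
  -- braid relations along the tree
  have step : ∀ {p : Γ} {a b : Gen}, σ p = gen a → coxLabel edges a b = 3 →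
      ∃ q, σ q = gen b ∧ p * q * p = q * p * q := fun {p a b} hp h => by
    obtain ⟨q, hq, hbr⟩ := adjust hker (p := p) (q := x0 b) (by rw [hp, hx0]; exact gen_braid h)
    exact ⟨q, hq.trans (hx0 b), hbr⟩
  obtain ⟨c', hc', bdc⟩ := step (hx0 .d) (show coxLabel edges .d .c = 3 by decide)
  obtain ⟨b', hb', bcb⟩ := step hc' (show coxLabel edges .c .b = 3 by decide)
  obtain ⟨a', ha', bba⟩ := step hb' (show coxLabel edges .b .a = 3 by decide)
  obtain ⟨e', he', bde⟩ := step (hx0 .d) (show coxLabel edges .d .e = 3 by decide)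
  obtain ⟨f', hf', bef⟩ := step he' (show coxLabel edges .e .f = 3 by decide)
  obtain ⟨g', hg', bfg⟩ := step hf' (show coxLabel edges .f .g = 3 by decide)
  obtain ⟨j', hj', bgj⟩ := step hg' (show coxLabel edges .g .j = 3 by decide)
  obtain ⟨h', hh', bdh⟩ := step (hx0 .d) (show coxLabel edges .d .h = 3 by decide)
  obtain ⟨i', hi', bhi⟩ := step hh' (show coxLabel edges .h .i = 3 by decide)
  let x : Gen → Γ := fun
    | .a => a' | .b => b' | .c => c' | .d => x0 .d | .e => e' | .f => f' | .g => g' | .j => j'
    | .h => h' | .i => i'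
  have hx : ∀ a, σ (x a) = gen a := by
    intro a; cases a <;> first | exact ha' | exact hb' | exact hc' | exact hx0 .d | exact he' | exact hf' | exact hg' | exact hj' | exact hh' | exact hi'
  have hbr : ∀ a b, coxLabel edges a b = 3 → x a * x b * x a = x b * x a * x b := by
    intro a b
    cases a <;> cases b <;> intro h <;> first
      | exact absurd h (by decide) | exact bdc | exact bdc.symm | exact bcb | exact bcb.symm
      | exact bba | exact bba.symm | exact bde | exact bde.symm | exact bef | exact bef.symm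
      | exact bfg | exact bfg.symm | exact bgj | exact bgj.symm | exact bdh | exact bdh.symm
      | exact bhi | exact bhi.symm
  have hsqπ : ∀ {p : Γ} {a : Gen}, σ p = gen a → σ (p * p) = 1 := fun {p a} hp => by
    rw [map_mul, hp]; exact gen_sq a
  obtain ⟨c, hc⟩ : ∃ c, c = x0 .d * x0 .d := ⟨_, rfl⟩
  have qc := (sq_eq hker (hsqπ (hx0 .d)) bdc).trans hc.symm
  have qb := (sq_eq hker (hsqπ hc') bcb).trans qc
  have qa := (sq_eq hker (hsqπ hb') bba).trans qb
  have qe := (sq_eq hker (hsqπ (hx0 .d)) bde).trans hc.symm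
  have qf := (sq_eq hker (hsqπ he') bef).trans qe
  have qg := (sq_eq hker (hsqπ hf') bfg).trans qf
  have qj := (sq_eq hker (hsqπ hg') bgj).trans qg
  have qh := (sq_eq hker (hsqπ (hx0 .d)) bdh).trans hc.symm
  have qi := (sq_eq hker (hsqπ hh') bhi).trans qh
  have hsq : ∀ a, x a * x a = c := by
    intro a; cases a <;> first | exact qa | exact qb | exact qc | exact hc.symm | exact qe | exact qf | exact qg | exact qj | exact qh | exact qi
  have hcker : σ c = 1 := by rw [hc]; exact hsqπ (hx0 .d)
  have hccen : ∀ w : Γ, c * w = w * c := central_mem hker hcker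
  -- adjoin a square root of the common square
  let t : Multiplicative (ZMod (2 * orderOf c)) := Multiplicative.ofAdd 1
  let D : Subgroup (Γ × Multiplicative (ZMod (2 * orderOf c))) := Subgroup.zpowers (c, t ^ 2)
  haveI : D.Normal := ⟨fun n hn w => by
    obtain ⟨i, rfl⟩ := Subgroup.mem_zpowers_iff.mp hn
    have hcc : Commute w (c, t ^ 2) := Prod.ext (hccen w.1).symm (mul_comm _ _)
    rw [(hcc.zpow_right i).eq, mul_inv_cancel_right]
    exact Subgroup.zpow_mem_zpowers _ i⟩
  let π₀ : Γ × Multiplicative (ZMod (2 * orderOf c)) →* Q := σ.comp (MonoidHom.fst _ _)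
  have hD : D ≤ π₀.ker := Subgroup.zpowers_le.mpr (by simpa [π₀] using hcker)
  let π : (Γ × Multiplicative (ZMod (2 * orderOf c))) ⧸ D →* Q := QuotientGroup.lift D π₀ hD
  have hπker : π.ker ≤ Subgroup.center _ := by
    intro w hw
    obtain ⟨⟨γ, s⟩, rfl⟩ := QuotientGroup.mk_surjective w
    have hγ : σ γ = 1 := hw
    refine Subgroup.mem_center_iff.mpr fun v => ?_
    obtain ⟨⟨δ, r⟩, rfl⟩ := QuotientGroup.mk_surjective v
    rw [← QuotientGroup.mk_mul, ← QuotientGroup.mk_mul]
    exact congrArg _ (Prod.ext (central_mem hker hγ δ).symm (mul_comm _ _))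
  let y : Gen → (Γ × Multiplicative (ZMod (2 * orderOf c))) ⧸ D := fun a => QuotientGroup.mk (x a, t)
  have ysq : ∀ a, y a * y a = 1 := fun a => by
    show QuotientGroup.mk ((x a, t) * (x a, t)) = 1
    refine (QuotientGroup.eq_one_iff _).mpr ?_
    rw [Prod.mk_mul_mk, hsq, ← pow_two]
    exact Subgroup.mem_zpowers _
  have ybr : ∀ a b, coxLabel edges a b = 3 → y a * y b * y a = y b * y a * y b := fun a b h => by
    show QuotientGroup.mk ((x a, t) * (x b, t) * (x a, t)) =
      QuotientGroup.mk ((x b, t) * (x a, t) * (x b, t))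
    rw [Prod.mk_mul_mk, Prod.mk_mul_mk, Prod.mk_mul_mk, Prod.mk_mul_mk, hbr a b h]
  obtain ⟨φ, hφ⟩ := section_of_involutions hπker y (fun a => hx a) ysq ybr
  have hφ' : ∀ q, π (φ q) = q := fun q => DFunLike.congr_fun hφ q
  let ι : Γ →* (Γ × Multiplicative (ZMod (2 * orderOf c))) ⧸ D :=
    (QuotientGroup.mk' D).comp (MonoidHom.inl _ _)
  have hcomm : commutator Γ ≤ φ.range.comap ι := by
    rw [commutator_def, Subgroup.commutator_le]
    intro p _ q _
    refine ⟨⁅π (ι p), π (ι q)⁆, ?_⟩
    have hcor : ∀ v, π ((φ (π v))⁻¹ * v) = 1 := fun v => by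
      rw [map_mul, map_inv, hφ', inv_mul_cancel]
    rw [map_commutatorElement φ, map_commutatorElement ι]
    have e : ∀ v, ∃ k, π k = 1 ∧ v = φ (π v) * k := fun v =>
      ⟨(φ (π v))⁻¹ * v, hcor v, by rw [mul_inv_cancel_left]⟩
    obtain ⟨k, hk, ek⟩ := e (ι p)
    obtain ⟨l, hl, el⟩ := e (ι q)
    conv_rhs => rw [ek, el]
    have ck := central_mem hπker hk
    have cl := central_mem hπker hl
    have ck' := central_mem hπker (u := k⁻¹) (by rw [map_inv, hk, inv_one])
    generalize φ (π (ι p)) = P, φ (π (ι q)) = R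
    rw [commutatorElement_def, commutatorElement_def]
    calc P * R * P⁻¹ * R⁻¹ = P * R * (k * k⁻¹) * P⁻¹ * (l * l⁻¹) * R⁻¹ := by group
      _ = P * (k * R) * (k⁻¹ * (P⁻¹ * l)) * l⁻¹ * R⁻¹ := by rw [ck R]; group
      _ = P * k * R * (P⁻¹ * l) * k⁻¹ * l⁻¹ * R⁻¹ := by rw [ck' (P⁻¹ * l)]; group
      _ = P * k * R * (l * P⁻¹) * k⁻¹ * l⁻¹ * R⁻¹ := by rw [← cl P⁻¹]
      _ = P * k * (R * l) * (k⁻¹ * P⁻¹)⁻¹⁻¹ * (R * l)⁻¹ := by rw [ck' P⁻¹]; group
      _ = P * k * (R * l) * (P * k)⁻¹ * (R * l)⁻¹ := by group
  rw [eq_bot_iff]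
  intro γ hγ
  obtain ⟨q, hq⟩ := hcom hγ |> fun h => hcomm h
  have hq1 : q = 1 := by
    rw [← hφ' q, hq]
    exact hγ
  rw [hq1, map_one] at hq
  have hmem : ((γ, 1) : Γ × Multiplicative (ZMod (2 * orderOf c))) ∈ D :=
    (QuotientGroup.eq_one_iff _).mp hq.symm
  obtain ⟨i, hi⟩ := Subgroup.mem_zpowers_iff.mp hmem
  rw [Prod.ext_iff] at hi
  simp only [Prod.pow_fst, Prod.pow_snd] at hi
  obtain ⟨h1, h2⟩ := hi
  have hdiv : (orderOf c : ℤ) ∣ i := by
    have h3 : ((2 * i : ℤ) : ZMod (2 * orderOf c)) = 0 := by
      have := congrArg Multiplicative.toAdd h2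
      simpa [t, mul_comm] using this
    rw [ZMod.intCast_zmod_eq_zero_iff_dvd] at h3
    push_cast at h3
    exact (mul_dvd_mul_iff_left two_ne_zero).mp h3
  rw [Subgroup.mem_bot, ← h1]
  exact orderOf_dvd_iff_zpow_eq_one.mp hdiv

end CfsgLib.CoxWord.FiMultiplier
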