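import Cfsg.Agent.Lib.CoxWord.Check

set_option autoImplicit false

namespace CfsgLib.CoxWord.Y555

/-- the graph with nodes `a b1 c1 d1 e1 f1 b2 c2 d2 b3 c3` numbered from `1`. -/
def adj (a b : ℕ) : Bool :=
  Nat.blt a 12 && Nat.blt b 12 && Nat.beq (0x40080210028010202005002801400a484000 / 2 ^ (12 * a + b) % 2) 1

/-- the same graph without the node `f1`, which becomes isolated. -/
def adjB (a b : ℕ) : Bool :=
  !(Nat.beq a 6) && !(Nat.beq b 6) && adj a b

/-- the same graph without the nodes `f1` and `d2`, which become isolated. -/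
def adjC (a b : ℕ) : Bool :=
  !(Nat.beq a 9) && !(Nat.beq b 9) && adjB a b

end CfsgLib.CoxWord.Y555
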