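import Cfsg.Agent.Lib.CoxWord.Spider
import Cfsg.Prelude.Def_Spor_M

/-!
The arm relations of `Y555` in the group presented by the Coxeter relations and the spider relation.
-/

set_option autoImplicit false

namespace CfsgLib.CoxWord.Y555

open Cfsg.Spor in
/-- the relators. -/
abbrev spiderRels : Set (FreeGroup Bimonster.Gen) :=
  coxRelators Bimonster.edges ∪
    {r' | r' ∈ [(Bimonster.a * Bimonster.b1 * Bimonster.c1 * Bimonster.a * Bimonster.b2 *
      Bimonster.c2 * Bimonster.a * Bimonster.b3 * Bimonster.c3) ^ 10]}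

/-- the group. -/
abbrev SG : Type := PresentedGroup spiderRels

open Cfsg.Spor

/-- digits to generators, given the generators for the eleven nodes. -/
def digit (l : List Bimonster.Gen) : ℕ → Option Bimonster.Gen
  | 0 => none
  | n + 1 => l[n]?

/-- the images of digits. -/
def img (l : List Bimonster.Gen) (n : ℕ) : SG :=
  (digit l n).elim 1 fun x => PresentedGroup.of x

theorem cox_rel (x y : Bimonster.Gen) :
    (PresentedGroup.of x * PresentedGroup.of y : SG) ^ coxLabel Bimonster.edges x y = 1 := by
  have hx : ∀ z : Bimonster.Gen, z ∈ coxNodes Bimonster.edges := by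
    intro z; cases z <;> decide
  have hm : (FreeGroup.of x * FreeGroup.of y) ^ coxLabel Bimonster.edges x y ∈ spiderRels :=
    Or.inl ⟨x, hx x, y, hx y, rfl⟩
  exact PresentedGroup.one_of_mem hm

theorem gen_sq (x : Bimonster.Gen) : (PresentedGroup.of x * PresentedGroup.of x : SG) = 1 := by
  have h := cox_rel x x
  simpa [coxLabel] using h

theorem gen_comm {x y : Bimonster.Gen} (hxy : coxLabel Bimonster.edges x y = 2) :
    (PresentedGroup.of x * PresentedGroup.of y : SG) =
      PresentedGroup.of y * PresentedGroup.of x := by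
  have h := cox_rel x y
  rw [hxy, pow_two] at h
  have hx := inv_eq_of_mul_eq_one_right (gen_sq x)
  have hy := inv_eq_of_mul_eq_one_right (gen_sq y)
  calc (PresentedGroup.of x * PresentedGroup.of y : SG)
      = (PresentedGroup.of x * PresentedGroup.of y)⁻¹ := eq_inv_of_mul_eq_one_left h
    _ = _ := by rw [mul_inv_rev, hx, hy]

theorem gen_braid {x y : Bimonster.Gen} (hxy : coxLabel Bimonster.edges x y = 3) :
    (PresentedGroup.of x * PresentedGroup.of y * PresentedGroup.of x : SG) =
      PresentedGroup.of y * PresentedGroup.of x * PresentedGroup.of y := by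
  have h := cox_rel x y
  rw [hxy] at h
  have hx := inv_eq_of_mul_eq_one_right (gen_sq x)
  have hy := inv_eq_of_mul_eq_one_right (gen_sq y)
  have h' : (PresentedGroup.of x * PresentedGroup.of y * PresentedGroup.of x : SG) *
      (PresentedGroup.of y * PresentedGroup.of x * PresentedGroup.of y) = 1 := by
    rw [pow_three] at h
    simpa [mul_assoc] using h
  calc (PresentedGroup.of x * PresentedGroup.of y * PresentedGroup.of x : SG)
      = (PresentedGroup.of y * PresentedGroup.of x * PresentedGroup.of y)⁻¹ :=
        eq_inv_of_mul_eq_one_left h'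
    _ = _ := by rw [mul_inv_rev, mul_inv_rev, hx, hy, ← mul_assoc]

/-- a labelling of the eleven nodes that respects the graph. -/
def good (l : List Bimonster.Gen) : Bool :=
  decide (l.length = 11) && (List.range 12).all fun a => (List.range 12).all fun b =>
    match digit l a, digit l b with
    | some x, some y => Nat.beq (coxLabel Bimonster.edges x y)
        (if x = y then 1 else if adj a b then 3 else 2) && (decide (x = y) == Nat.beq a b)
    | _, _ => !adj a b

theorem rels_img {l : List Bimonster.Gen} (hl : good l = true) : Rels adj (img l) := by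
  simp only [good, Bool.and_eq_true, List.all_eq_true, decide_eq_true_eq] at hl
  obtain ⟨hlen, hall⟩ := hl
  have hbig : ∀ a, 12 ≤ a → digit l a = none := by
    rintro (_ | a) ha
    · rfl
    · exact List.getElem?_eq_none (by omega)
  have hadjlt : ∀ a b, adj a b = true → a < 12 ∧ b < 12 := by
    intro a b h
    simp only [adj, Bool.and_eq_true] at h
    exact ⟨Nat.le_of_ble_eq_true h.1.1, Nat.le_of_ble_eq_true h.1.2⟩
  refine ⟨rfl, fun a => ?_, fun a b hab => ?_, fun a b hab => ?_⟩
  · unfold img
    cases digit l a with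
    | none => simp
    | some x => exact gen_sq x
  · unfold img
    cases ha : digit l a with
    | none => simp
    | some x =>
      cases hb : digit l b with
      | none => simp
      | some y =>
        have la : a < 12 := by
          by_contra hc
          rw [hbig a (by omega)] at ha
          cases ha
        have lb : b < 12 := by
          by_contra hc
          rw [hbig b (by omega)] at hb
          cases hb
        have h := hall a (List.mem_range.mpr la) b (List.mem_range.mpr lb)
        rw [ha, hb] at h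
        simp only [Bool.and_eq_true] at h
        by_cases hxy : x = y
        · subst hxy; rfl
        · have h2 := Nat.eq_of_beq_eq_true h.1
          rw [if_neg hxy, hab] at h2
          exact gen_comm h2
  · obtain ⟨la, lb⟩ := hadjlt a b hab
    have h := hall a (List.mem_range.mpr la) b (List.mem_range.mpr lb)
    unfold img
    cases ha : digit l a with
    | none => rw [ha] at h; simp [hab] at h
    | some x =>
      cases hb : digit l b with
      | none => rw [ha, hb] at h; simp [hab] at h
      | some y =>
        rw [ha, hb] at h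
        simp only [Bool.and_eq_true] at h
        by_cases hxy : x = y
        · subst hxy; rfl
        · have h2 := Nat.eq_of_beq_eq_true h.1
          rw [if_neg hxy, hab] at h2
          exact gen_braid h2

/-- the nodes in the standard order for arms `i`, `j`, `k`. -/
def arms : List (List Bimonster.Gen) :=
  [[.a, .b1, .c1, .d1, .e1, .f1, .b2, .c2, .d2, .b3, .c3],
   [.a, .b1, .c1, .d1, .e1, .f1, .b3, .c3, .d3, .b2, .c2],
   [.a, .b2, .c2, .d2, .e2, .f2, .b1, .c1, .d1, .b3, .c3],
   [.a, .b2, .c2, .d2, .e2, .f2, .b3, .c3, .d3, .b1, .c1],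
   [.a, .b3, .c3, .d3, .e3, .f3, .b1, .c1, .d1, .b2, .c2],
   [.a, .b3, .c3, .d3, .e3, .f3, .b2, .c2, .d2, .b1, .c1]]

theorem arms_good : ∀ l ∈ arms, good l = true := by decide +kernel

local notation "γ" => (PresentedGroup.of : Bimonster.Gen → SG)

theorem spider : (γ .a * γ .b1 * γ .c1 * γ .a * γ .b2 * γ .c2 * γ .a * γ .b3 * γ .c3) ^ 10 = 1 := by
  have h := PresentedGroup.one_of_mem (rels := spiderRels) (Or.inr (List.mem_singleton_self _))
  simpa [PresentedGroup.of] using h

theorem spider2 : (γ .a * γ .b2 * γ .c2 * γ .a * γ .b3 * γ .c3 * γ .a * γ .b1 * γ .c1) ^ 10 = 1 := by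
  have h := spider
  generalize γ .a = a, γ .b1 = b, γ .c1 = c, γ .b2 = b', γ .c2 = c', γ .b3 = b'', γ .c3 = c''
    at h ⊢
  have e : a * b' * c' * a * b'' * c'' * a * b * c =
      (a * b * c)⁻¹ * (a * b * c * a * b' * c' * a * b'' * c'') * (a * b * c)⁻¹⁻¹ := by group
  rw [e, conj_pow, h]; group

theorem spider3 : (γ .a * γ .b3 * γ .c3 * γ .a * γ .b1 * γ .c1 * γ .a * γ .b2 * γ .c2) ^ 10 = 1 := by
  have h := spider2
  generalize γ .a = a, γ .b1 = b, γ .c1 = c, γ .b2 = b', γ .c2 = c', γ .b3 = b'', γ .c3 = c''
    at h ⊢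
  have e : a * b'' * c'' * a * b * c * a * b' * c' =
      (a * b' * c')⁻¹ * (a * b' * c' * a * b'' * c'' * a * b * c) * (a * b' * c')⁻¹⁻¹ := by group
  rw [e, conj_pow, h]; group

/-- the six arm relations. -/
theorem arm_relations :
    (γ .f1 = (γ .a * γ .b1 * γ .b2 * γ .b3 * γ .c1 * γ .c2 * γ .d1) ^ 9) ∧
    (γ .f1 = (γ .a * γ .b1 * γ .b3 * γ .b2 * γ .c1 * γ .c3 * γ .d1) ^ 9) ∧
    (γ .f2 = (γ .a * γ .b2 * γ .b1 * γ .b3 * γ .c2 * γ .c1 * γ .d2) ^ 9) ∧
    (γ .f2 = (γ .a * γ .b2 * γ .b3 * γ .b1 * γ .c2 * γ .c3 * γ .d2) ^ 9) ∧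
    (γ .f3 = (γ .a * γ .b3 * γ .b1 * γ .b2 * γ .c3 * γ .c1 * γ .d3) ^ 9) ∧
    (γ .f3 = (γ .a * γ .b3 * γ .b2 * γ .b1 * γ .c3 * γ .c2 * γ .d3) ^ 9) := by
  have H := arms_good
  simp only [arms, List.forall_mem_cons] at H
  obtain ⟨g12, g13, g21, g23, g31, g32, -⟩ := H
  have r12 := rels_img g12
  have r23 := rels_img g23
  have r31 := rels_img g31
  have r13 := rels_img g13
  have r21 := rels_img g21
  have r32 := rels_img g32
  have c1 := center_eq r12 (by simpa [spW, img, digit, mul_assoc] using spider)
  have c2 := center_eq r23 (by simpa [spW, img, digit, mul_assoc] using spider2)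
  have c3 := center_eq r31 (by simpa [spW, img, digit, mul_assoc] using spider3)
  have a12 := arm_eq r12 c1
  have a23 := arm_eq r23 c2
  have a31 := arm_eq r31 c3
  simp only [zW, zW2, img, digit, ev_cons, ev_nil] at c1 c2 c3
  have a13 := arm_eq r13 (by simpa [zW, zW2, img, digit] using c1.symm)
  have a21 := arm_eq r21 (by simpa [zW, zW2, img, digit] using c2.symm)
  have a32 := arm_eq r32 (by simpa [zW, zW2, img, digit] using c3.symm)
  refine ⟨?_, ?_, ?_, ?_, ?_, ?_⟩
  · simpa [zW, img, digit, mul_assoc] using a12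
  · simpa [zW, img, digit, mul_assoc] using a13
  · simpa [zW, img, digit, mul_assoc] using a21
  · simpa [zW, img, digit, mul_assoc] using a23
  · simpa [zW, img, digit, mul_assoc] using a31
  · simpa [zW, img, digit, mul_assoc] using a32

end CfsgLib.CoxWord.Y555
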