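import Cfsg.Agent.Lib.CoxWord.DataB
import Cfsg.Agent.Lib.CoxWord.DataC
import Cfsg.Agent.Lib.CoxWord.DataC2
import Cfsg.Agent.Lib.CoxWord.DataT
import Cfsg.Agent.Lib.CoxWord.DataT2

/-!
In a group generated by involutions satisfying the relations of the graph with arms of length
`5, 3, 2`, the spider relation implies that the end node of the long arm is the ninth power of
`a b1 b2 b3 c1 c2 d1`.

Outline: the spider relation makes the central elements of the two subgroups of type `E7`
(arms `3,2,1` and `3,1,2`) equal, say to `z`.  Then `z` commutes with `d2`, and three frames of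
eight orthogonal roots show that the central element `(z e1)^3` of `W(E8)` is trivial, so the
highest root of `E8` gives `z`.  Finally `c3` centralises many translations of the affine `E8`
subgroup, which gives `(f1 z)^3 = 1`; as `f1` commutes with `z`, this is `f1 = z`.
-/

set_option autoImplicit false

namespace CfsgLib.CoxWord.Y555

variable {G : Type*} [Group G] {g : ℕ → G}

theorem ev_pw (w : List ℕ) : ∀ n : ℕ, ev g (pw w n) = ev g w ^ n := by
  intro n
  induction n with
  | zero => simp [pw]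
  | succ n ih => rw [pw, ev_append, ih, pow_succ']

theorem ev_cj (h : Rels adj g) (a w : List ℕ) : ev g (cj a w) = ev g a * ev g w * (ev g a)⁻¹ := by
  rw [cj, ev_append, ev_append, h.ev_reverse]

theorem move_eq (h : Rels adj g) {M p x : List ℕ} (hM : ev g M = 1)
    (e : ev g (M ++ p ++ M.reverse) = ev g x) : ev g p = ev g x := by
  rw [ev_append, ev_append, h.ev_reverse, hM, inv_one, one_mul, mul_one] at e
  exact e

theorem commute_ev {x : G} : ∀ {l : List ℕ}, (∀ a ∈ l, Commute x (g (a + 1))) →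
    Commute x (ev g l) := by
  intro l
  induction l with
  | nil => intro _; simp
  | cons a r ih =>
    intro hl
    rw [ev_cons]
    exact (hl a (List.mem_cons_self ..)).mul_right (ih fun b hb => hl b (List.mem_cons_of_mem _ hb))

theorem commute_letter (h : Rels adj g) (c : ℕ) {l : List ℕ}
    (hl : (l.all fun a => !adj c (a + 1)) = true) : Commute (g c) (ev g l) :=
  commute_ev fun a ha => h.comm c (a + 1) (by
    have := List.all_eq_true.mp hl a ha
    simpa using this)

/-- The spider relation identifies the centres of the two subgroups of type `E7`. -/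
theorem center_eq (h : Rels adj g) (hs : ev g spW ^ 10 = 1) :
    ev g zW ^ 9 = ev g zW2 ^ 9 := by
  have hM : ∀ a : List ℕ, ev g (cj a (pw spW 10)) = 1 := fun a => by
    rw [ev_cj h, ev_pw, hs]; group
  have e1 : ev g rA = ev g mx0 := move_eq h (hM _) (ev_mv0 h)
  have e2 : ev g mx0 = ev g rB := move_eq h (hM _) (ev_mv1 h)
  have z1 := ev_z12 h
  have z2 := ev_z13 h
  have z0e := ev_zNorm h
  rw [ev_append] at z1 z2
  rw [ev_pw] at z0e z2
  rw [z0e, z1, e1, e2, z2]

/-- The end node of the long arm is the central element of `W(E7)`. -/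
theorem arm_eq (h : Rels adj g) (hz : ev g zW ^ 9 = ev g zW2 ^ 9) :
    g 6 = ev g zW ^ 9 := by
  have z0e := ev_zNorm h
  have z1e := ev_zNorm2 h
  rw [ev_pw] at z0e z1e
  have zeq : ev g z0 = ev g z1 := by rw [← z0e, ← z1e, hz]
  have zd : Commute (ev g z0) (g 9) := by
    have e := ev_zComm2 h
    rw [zeq]
    simpa [Commute, SemiconjBy] using e
  have zc : Commute (ev g z0) (g 11) := by
    have e := ev_zComm3 h
    rw [zeq]
    simpa [Commute, SemiconjBy] using e
  have zsq : ev g z0 * ev g z0 = 1 := by simpa using ev_zSq h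
  -- the central element of `W(E8)`
  have hC : ev g cW = (ev g z0 * g 5) ^ 3 := by
    rw [← ev_cNorm h, ev_pw, ev_append]; simp
  have rz : ev g (pw (z0 ++ [8]) 2) = 1 := by
    rw [ev_pw, ev_append]
    simp only [ev_cons, ev_nil, mul_one, pow_two]
    calc ev g z0 * g 9 * (ev g z0 * g 9) = ev g z0 * (g 9 * ev g z0) * g 9 := by group
      _ = ev g z0 * ev g z0 * (g 9 * g 9) := by rw [← zd.eq]; group
      _ = 1 := by rw [zsq, h.sq, one_mul]
  have hM : ∀ a : List ℕ, ev g (cj a (pw (z0 ++ [8]) 2)) = 1 := fun a => by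
    rw [ev_cj h, rz]; group
  have hMr : ∀ a : List ℕ, ev g (cj a (pw (z0 ++ [8]) 2).reverse) = 1 := fun a => by
    rw [ev_cj h, h.ev_reverse, rz]; group
  have cd : Commute (ev g cW) (g 9) := by
    rw [hC]
    exact ((zd.mul_left (h.comm 5 9 (by decide))).pow_left 3)
  have hlet : ∀ a ∈ [0, 1, 2, 3, 4, 6, 7, 8, 9], Commute (ev g cW) (g (a + 1)) := by
    intro a ha
    simp only [List.mem_cons, List.not_mem_nil, or_false] at ha
    rcases ha with rfl | rfl | rfl | rfl | rfl | rfl | rfl | rfl | rfl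
    · simpa [Commute, SemiconjBy] using ev_cComm0 h
    · simpa [Commute, SemiconjBy] using ev_cComm1 h
    · simpa [Commute, SemiconjBy] using ev_cComm2 h
    · simpa [Commute, SemiconjBy] using ev_cComm3 h
    · simpa [Commute, SemiconjBy] using ev_cComm4 h
    · simpa [Commute, SemiconjBy] using ev_cComm6 h
    · simpa [Commute, SemiconjBy] using ev_cComm7 h
    · exact cd
    · simpa [Commute, SemiconjBy] using ev_cComm9 h
  have hfix : ∀ l : List ℕ, (l.all fun a => [0, 1, 2, 3, 4, 6, 7, 8, 9].contains a) = true →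
      ev g (cj l cW) = ev g cW := by
    intro l hl
    have hc : Commute (ev g cW) (ev g l) := commute_ev fun a ha =>
      hlet a (List.contains_iff_mem.mp (List.all_eq_true.mp hl a ha))
    rw [ev_cj h, ← hc.eq, mul_inv_cancel_right]
  have m0 : ev g qa0 = ev g qc0 := move_eq h (hMr _) (ev_cm0 h)
  have m4 : ev g qb0 = ev g qe0 := move_eq h (hM _) (ev_cm4 h)
  have m8 : ev g qd0 = ev g qf0 := move_eq h (hM _) (ev_cm8 h)
  have m9 : ev g qd1 = ev g qf1 := move_eq h (hM _) (ev_cm9 h)
  have m10 : ev g qd2 = ev g qf2 := move_eq h (hM _) (ev_cm10 h)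
  have q1 : qa1 = qc1 := rfl
  have q2 : qa2 = qc2 := rfl
  have q3 : qa3 = qc3 := rfl
  have q5 : qb1 = qe1 := rfl
  have q6 : qb2 = qe2 := rfl
  have q7 : qb3 = qe3 := rfl
  have q11 : qd3 = qf3 := rfl
  have fa := ev_cFrameA h
  have fb := ev_cFrameB h
  have fc := ev_cFrameC h
  rw [hfix gW (by decide +kernel)] at fb
  rw [hfix hW (by decide +kernel)] at fc
  rw [← q1, ← q2, ← q3] at fb
  rw [← q5, ← q6, ← q7, ← q11] at fc
  simp only [ev_append] at fa fb fc
  rw [← m0] at fb
  rw [← m4, ← m8, ← m9, ← m10] at fc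
  have hq := ev_quadSq h
  simp only [ev_append, ev_nil] at hq
  generalize ev g qa0 * ev g qa1 * ev g qa2 * ev g qa3 = A at fa fb
  generalize ev g qb0 * ev g qb1 * ev g qb2 * ev g qb3 = B at fa fc hq
  generalize ev g qd0 * ev g qd1 * ev g qd2 * ev g qd3 = C at fb fc
  have hBC : B = C := mul_left_cancel (fa.symm.trans fb)
  have hC1 : ev g cW = 1 := by rw [fc, ← hBC, hq]
  -- the translation
  have hr8 : ev g rTheta = ev g z0 := by
    rw [← ev_rThetaEq h, ev_append, hC1, one_mul]
  have hT : ev g tW = g 6 * ev g z0 := by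
    have : tW = [5] ++ rTheta := rfl
    rw [this, ev_append, hr8]; simp
  have cT : Commute (g 11) (ev g tW) := by
    rw [hT]
    exact Commute.mul_right (h.comm 11 6 (by decide)) zc.symm
  have cTr : Commute (g 11) (ev g tW.reverse) := by
    rw [h.ev_reverse]; exact cT.inv_right
  have hcj : ∀ w : List ℕ, (w.all fun a => !adj 11 (a + 1)) = true →
      Commute (g 11) (ev g (cj w tW)) ∧ Commute (g 11) (ev g (cj w tW.reverse)) := by
    intro w hw
    have hc := commute_letter h 11 hw
    rw [ev_cj h, ev_cj h]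
    exact ⟨(hc.mul_right cT).mul_right hc.inv_right, (hc.mul_right cTr).mul_right hc.inv_right⟩
  have stepC : ∀ {a t s r : List ℕ}, Commute (g 11) (ev g a) → Commute (g 11) (ev g t) →
      ev g t = ev g s → ev g (a ++ s) = ev g r → Commute (g 11) (ev g r) := by
    intro a t s r ha ht e1 e2
    rw [← e2, ev_append, ← e1]
    exact ha.mul_right ht
  have c0 : Commute (g 11) (ev g ([] : List ℕ)) := by simp
  have cP0 := stepC c0 (hcj uP0 (by decide +kernel)).1 (ev_tPEq0 h) (ev_pPEq0 h)
  have cP1 := stepC cP0 (hcj uP1 (by decide +kernel)).1 (ev_tPEq1 h) (ev_pPEq1 h)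
  have cP := stepC cP1 (hcj uP2 (by decide +kernel)).1 (ev_tPEq2 h) (ev_pPEq2 h)
  have cQ0 := stepC c0 (hcj uQ0 (by decide +kernel)).1 (ev_tQEq0 h) (ev_pQEq0 h)
  have cQ1 := stepC cQ0 (hcj uQ1 (by decide +kernel)).1 (ev_tQEq1 h) (ev_pQEq1 h)
  have cQ2 := stepC cQ1 (hcj uQ2 (by decide +kernel)).1 (ev_tQEq2 h) (ev_pQEq2 h)
  have cQ3 := stepC cQ2 (hcj uQ3 (by decide +kernel)).1 (ev_tQEq3 h) (ev_pQEq3 h)
  have cQ4 := stepC cQ3 (hcj uQ4 (by decide +kernel)).1 (ev_tQEq4 h) (ev_pQEq4 h)
  have cQ5 := stepC cQ4 (hcj uQ5 (by decide +kernel)).2 (ev_tQEq5 h) (ev_pQEq5 h)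
  have cQ6 := stepC cQ5 (hcj uQ6 (by decide +kernel)).2 (ev_tQEq6 h) (ev_pQEq6 h)
  have cQ := stepC cQ6 (hcj uQ7 (by decide +kernel)).2 (ev_tQEq7 h) (ev_pQEq7 h)
  have hb : g 10 * ev g pP2 * g 10 = ev g pQ7 := by simpa [mul_assoc] using ev_bPb h
  have hcube := ev_cube h
  rw [ev_cj h, ev_pw, ev_append, h.ev_reverse] at hcube
  generalize ev g pP2 = X at cP hb hcube
  generalize ev g pQ7 = Y at cQ hb hcube
  have bsq := h.sq 10
  have csq := h.sq 11
  have hb' : g 10 * Y * g 10 = X := by
    rw [← hb]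
    calc g 10 * (g 10 * X * g 10) * g 10 = g 10 * g 10 * X * (g 10 * g 10) := by group
      _ = X := by rw [bsq, one_mul, mul_one]
  have fixc : ∀ {W : G}, Commute (g 11) W → g 11 * W * g 11 = W := by
    intro W hW
    rw [hW.eq, mul_assoc, csq, mul_one]
  have hXY : X = Y := by
    calc X = g 10 * (g 11 * (g 10 * X * g 10) * g 11) * g 10 := by rw [hb, fixc cQ, hb']
      _ = g 10 * g 11 * g 10 * X * (g 10 * g 11 * g 10) := by group
      _ = g 11 * g 10 * g 11 * X * (g 11 * g 10 * g 11) := by rw [h.braid 10 11 (by decide)]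
      _ = g 11 * (g 10 * (g 11 * X * g 11) * g 10) * g 11 := by group
      _ = Y := by rw [fixc cP, hb, fixc cQ]
  rw [hXY, mul_inv_cancel] at hcube
  have hT3 : ev g tW ^ 3 = 1 := by
    have := congrArg (fun y => (ev g uCube)⁻¹ * y * ev g uCube) hcube
    simpa [mul_assoc] using this
  have fz : Commute (g 6) (ev g z0) := commute_letter h 6 (by decide +kernel)
  have hT2 : ev g tW ^ 2 = 1 := by
    rw [hT, fz.mul_pow, pow_two, pow_two, h.sq, zsq, one_mul]
  have hT1 : g 6 * ev g z0 = 1 := by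
    rw [← hT]
    calc ev g tW = ev g tW ^ 3 := by rw [pow_succ, hT2, one_mul]
      _ = 1 := hT3
  rw [z0e]
  calc g 6 = g 6 * (ev g z0 * ev g z0) := by rw [zsq, mul_one]
    _ = ev g z0 := by rw [← mul_assoc, hT1, one_mul]

end CfsgLib.CoxWord.Y555
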