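import Cfsg.Agent.Lib.CoxWord.Graph

/-!
The words used in the proof that the spider relation implies the arm relations.
-/

set_option autoImplicit false

namespace CfsgLib.CoxWord.Y555

/-- `g w g⁻¹` as a word. -/
def cj (g w : List ℕ) : List ℕ := g ++ w ++ g.reverse

/-- powers of a word. -/
def pw (w : List ℕ) : ℕ → List ℕ
  | 0 => []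
  | n + 1 => w ++ pw w n

def spW : List ℕ :=
    [0, 1, 2, 0, 6, 7, 0, 9, 10]

def zW : List ℕ :=
    [0, 1, 6, 9, 2, 7, 3]

def zW2 : List ℕ :=
    [0, 1, 9, 6, 2, 10, 3]

def z0 : List ℕ :=
    [0, 1, 0, 2, 1, 0, 3, 2, 1, 0, 6, 0, 1, 2, 3, 7, 6, 0, 1, 2, 3, 9, 0, 1, 2, 3, 6, 0, 1, 2,
    7, 6, 0, 1, 9, 0, 1, 2, 3, 6, 0, 1, 2, 7, 6, 0, 1, 9, 0, 1, 2, 3, 6, 0, 1, 2, 7, 9, 0, 1, 6,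
    0, 9]

def z1 : List ℕ :=
    [0, 1, 0, 2, 1, 0, 3, 2, 1, 0, 6, 0, 1, 2, 3, 9, 0, 1, 2, 3, 6, 0, 1, 2, 9, 0, 1, 6, 0, 9,
    10, 9, 0, 1, 2, 3, 6, 0, 1, 2, 9, 0, 1, 6, 0, 9, 10, 9, 0, 1, 2, 3, 6, 0, 1, 2, 9, 0, 1, 6,
    0, 9, 10]

def rA : List ℕ :=
    [7, 6, 0, 1, 2, 3, 9, 0, 1, 2, 6, 0, 1, 7, 6, 0, 9, 0, 6, 7, 1, 0, 6, 2, 1, 0, 9, 3, 2, 1,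
    0, 6, 7]

def rB : List ℕ :=
    [10, 9, 0, 1, 2, 3, 6, 0, 1, 2, 9, 0, 1, 6, 0, 9, 10, 9, 0, 6, 1, 0, 9, 2, 1, 0, 6, 3, 2, 1,
    0, 9, 10]

def dSix : List ℕ :=
    [0, 1, 0, 2, 1, 0, 3, 2, 1, 0, 6, 0, 1, 2, 3, 9, 0, 1, 2, 3, 6, 0, 1, 2, 9, 0, 1, 6, 0, 9]

def cW : List ℕ :=
    [0, 1, 0, 2, 1, 0, 3, 2, 1, 0, 4, 3, 2, 1, 0, 6, 0, 1, 2, 3, 4, 7, 6, 0, 1, 2, 3, 4, 9, 0,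
    1, 2, 3, 4, 6, 0, 1, 2, 3, 7, 6, 0, 1, 2, 9, 0, 1, 2, 3, 4, 6, 0, 1, 2, 3, 7, 6, 0, 1, 2, 9,
    0, 1, 2, 3, 4, 6, 0, 1, 2, 3, 7, 6, 0, 1, 2, 9, 0, 1, 2, 3, 4, 6, 0, 1, 2, 7, 6, 0, 1, 9, 0,
    1, 2, 3, 4, 6, 0, 1, 2, 7, 6, 0, 1, 9, 0, 1, 2, 3, 6, 0, 1, 2, 7, 9, 0, 1, 6, 0, 9]

def mg0 : List ℕ :=
    [0, 9, 10, 6, 1, 0]

def mx0 : List ℕ :=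
    [2, 7, 6, 9, 0, 1, 2, 6, 0, 7, 6, 9, 0, 1, 10, 9, 0, 1, 2, 6, 0, 1, 7, 6, 0, 9, 0, 1, 6, 0,
    7, 6, 10, 9, 0, 1, 2, 6, 0, 1, 7, 6, 0, 9, 0, 1, 6, 0, 7, 6, 10, 9, 0, 1, 2, 3, 6, 0, 1, 7,
    6, 0, 9, 0, 1, 2, 6, 0, 1, 7, 6, 0, 9, 10, 9, 0, 6, 7, 1, 0, 6, 2, 1, 0, 9, 0, 6, 7, 1, 0,
    6, 3, 2, 1, 0, 9, 10, 6, 7, 0, 6, 1, 0, 9, 0, 6, 7, 1, 0, 6, 2, 1, 0, 9, 10, 6, 7, 0, 6, 1,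
    0, 9, 0, 6, 7, 1, 0, 6, 2, 1, 0, 9, 10, 1, 0, 9, 6, 7, 0, 6, 2, 1, 0, 9, 6, 7, 2]

def mg1 : List ℕ :=
    [10]

def gW : List ℕ :=
    [7, 8, 6, 7]

def hW : List ℕ :=
    [0, 6, 4, 3, 2, 1, 0, 9, 3, 2, 1, 0, 6, 7, 8, 4, 3, 2, 1, 0, 6, 7, 1, 2, 3, 4, 1, 2]

def qa0 : List ℕ :=
    [4, 3, 2, 1, 0, 6, 7, 9, 0, 1, 2, 3, 4, 6, 0, 1, 2, 3, 9, 0, 1, 2, 6, 0, 1, 7, 6, 0, 9, 0,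
    6, 7, 1, 0, 6, 2, 1, 0, 9, 3, 2, 1, 0, 6, 4, 3, 2, 1, 0, 9, 7, 6, 0, 1, 2, 3, 4]

def qa1 : List ℕ :=
    [9]

def qa2 : List ℕ :=
    [3]

def qa3 : List ℕ :=
    [1]

def qb0 : List ℕ :=
    [7, 6, 0, 1, 2, 3, 9, 0, 1, 2, 6, 0, 1, 7, 6, 0, 9, 0, 6, 7, 1, 0, 6, 2, 1, 0, 9, 3, 2, 1,
    0, 6, 7]

def qb1 : List ℕ :=
    [2, 1, 0, 3, 2, 1, 6, 0, 9, 0, 6, 1, 2, 3, 0, 1, 2]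

def qb2 : List ℕ :=
    [0, 1, 6, 0, 9, 0, 6, 1, 0]

def qb3 : List ℕ :=
    [6]

def qc0 : List ℕ :=
    [4, 3, 2, 1, 0, 7, 6, 8, 7, 9, 0, 1, 2, 3, 4, 6, 0, 1, 2, 3, 9, 0, 1, 2, 6, 0, 1, 7, 6, 0,
    9, 0, 6, 7, 1, 0, 6, 2, 1, 0, 9, 3, 2, 1, 0, 6, 4, 3, 2, 1, 0, 9, 7, 8, 6, 7, 0, 1, 2, 3, 4]

def qc1 : List ℕ :=
    [9]

def qc2 : List ℕ :=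
    [3]

def qc3 : List ℕ :=
    [1]

def qd0 : List ℕ :=
    [0, 1, 2, 3, 7, 8, 9, 0, 1, 2, 6, 0, 1, 7, 6, 0, 9, 0, 6, 7, 1, 0, 6, 2, 1, 0, 9, 8, 7, 3,
    2, 1, 0]

def qd1 : List ℕ :=
    [2, 1, 3, 2, 7, 6, 0, 1, 8, 7, 6, 0, 9, 0, 6, 7, 8, 1, 0, 6, 7, 2, 3, 1, 2]

def qd2 : List ℕ :=
    [7, 6, 0, 1, 8, 7, 6, 0, 9, 0, 6, 7, 8, 1, 0, 6, 7]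

def qd3 : List ℕ :=
    [8]

def qe0 : List ℕ :=
    [0, 2, 1, 4, 3, 2, 6, 0, 1, 7, 6, 8, 7, 9, 0, 1, 2, 3, 4, 6, 0, 1, 2, 3, 7, 8, 9, 0, 1, 2,
    6, 0, 1, 7, 6, 0, 9, 0, 6, 7, 1, 0, 6, 2, 1, 0, 9, 8, 7, 3, 2, 1, 0, 6, 4, 3, 2, 1, 0, 9, 7,
    8, 6, 7, 1, 0, 6, 2, 3, 4, 1, 2, 0]

def qe1 : List ℕ :=
    [2, 1, 0, 3, 2, 1, 6, 0, 9, 0, 6, 1, 2, 3, 0, 1, 2]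

def qe2 : List ℕ :=
    [0, 1, 6, 0, 9, 0, 6, 1, 0]

def qe3 : List ℕ :=
    [6]

def qf0 : List ℕ :=
    [0, 1, 2, 3, 4, 3, 2, 1, 0, 6, 0, 1, 2, 3, 7, 8, 9, 0, 1, 2, 6, 0, 1, 7, 6, 0, 9, 0, 6, 7,
    1, 0, 6, 2, 1, 0, 9, 8, 7, 3, 2, 1, 0, 6, 0, 1, 2, 3, 4, 3, 2, 1, 0]

def qf1 : List ℕ :=
    [0, 2, 3, 4, 3, 2, 1, 6, 0, 9, 0, 1, 2, 3, 6, 0, 1, 2, 7, 6, 0, 1, 8, 7, 6, 0, 9, 0, 6, 7,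
    8, 1, 0, 6, 7, 2, 1, 0, 6, 3, 2, 1, 0, 9, 0, 6, 1, 2, 3, 4, 3, 2, 0]

def qf2 : List ℕ :=
    [2, 1, 0, 4, 3, 2, 1, 6, 0, 9, 0, 1, 2, 3, 6, 0, 1, 2, 7, 6, 0, 1, 8, 7, 6, 0, 9, 0, 6, 7,
    8, 1, 0, 6, 7, 2, 1, 0, 6, 3, 2, 1, 0, 9, 0, 6, 1, 2, 3, 4, 0, 1, 2]

def qf3 : List ℕ :=
    [8]

def cg0 : List ℕ :=
    [7, 4]

def cg4 : List ℕ :=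
    [9, 8, 1, 0, 6, 7, 4]

def cg8 : List ℕ :=
    [7, 0, 1, 2, 3, 4]

def cg9 : List ℕ :=
    [7, 2, 3, 4]

def cg10 : List ℕ :=
    [7, 4]

def rTheta : List ℕ :=
    [4, 3, 2, 1, 0, 6, 7, 9, 0, 1, 2, 3, 4, 6, 0, 1, 2, 3, 9, 0, 1, 2, 6, 0, 1, 7, 6, 0, 9, 0,
    6, 7, 1, 0, 6, 2, 1, 0, 9, 3, 2, 1, 0, 6, 4, 3, 2, 1, 0, 9, 7, 6, 0, 1, 2, 3, 4]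

def tW : List ℕ :=
    [5, 4, 3, 2, 1, 0, 6, 7, 9, 0, 1, 2, 3, 4, 6, 0, 1, 2, 3, 9, 0, 1, 2, 6, 0, 1, 7, 6, 0, 9,
    0, 6, 7, 1, 0, 6, 2, 1, 0, 9, 3, 2, 1, 0, 6, 4, 3, 2, 1, 0, 9, 7, 6, 0, 1, 2, 3, 4]

def uP0 : List ℕ :=
    [0, 1, 2, 3, 4]

def tP0 : List ℕ :=
    [0, 1, 2, 3, 4, 5, 4, 3, 2, 1, 0, 6, 7, 9, 0, 1, 2, 3, 4, 6, 0, 1, 2, 3, 9, 0, 1, 2, 6, 0,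
    1, 7, 6, 0, 9, 0, 1, 2, 3, 4, 6, 0, 1, 2, 3, 7, 6, 0, 1, 2, 9, 0, 1, 6, 0, 7, 6, 9]

def pP0 : List ℕ :=
    [0, 1, 2, 3, 4, 5, 4, 3, 2, 1, 0, 6, 7, 9, 0, 1, 2, 3, 4, 6, 0, 1, 2, 3, 9, 0, 1, 2, 6, 0,
    1, 7, 6, 0, 9, 0, 1, 2, 3, 4, 6, 0, 1, 2, 3, 7, 6, 0, 1, 2, 9, 0, 1, 6, 0, 7, 6, 9]

def uP1 : List ℕ :=
    [6, 0, 1, 2, 3, 4]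

def tP1 : List ℕ :=
    [5, 4, 3, 2, 1, 0, 6, 0, 1, 2, 3, 4, 5, 7, 9, 0, 1, 2, 3, 4, 6, 0, 1, 2, 3, 9, 0, 1, 2, 6,
    0, 1, 7, 6, 0, 9, 0, 1, 2, 3, 4, 6, 0, 1, 2, 3, 7, 6, 0, 1, 2, 9, 0, 1, 6, 0, 7, 9]

def pP1 : List ℕ :=
    [0, 1, 2, 3, 4, 5, 4, 3, 2, 1, 0, 6, 0, 1, 2, 3, 4, 7, 9, 0, 1, 2, 3, 4, 5, 6, 0, 1, 2, 3,
    4, 9, 0, 1, 2, 3, 6, 0, 1, 2, 7, 6, 0, 1, 9, 0, 1, 2, 3, 4, 5, 6, 0, 1, 2, 3, 4, 7, 6, 0, 1,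
    2, 3, 9, 0, 1, 2, 3, 4, 6, 0, 1, 2, 3, 7, 6, 0, 9, 0, 1, 2, 3, 4, 6, 0, 1, 2, 7, 6, 0, 1, 9,
    0, 1, 2, 3, 4, 6, 0, 1, 2, 3, 7, 6, 0, 1, 2, 9, 0, 1, 6, 0, 7, 9]

def uP2 : List ℕ :=
    [7, 6, 0, 1, 2, 3, 4]

def tP2 : List ℕ :=
    [5, 4, 3, 2, 1, 0, 6, 7, 6, 0, 1, 2, 3, 4, 5, 9, 0, 1, 2, 3, 4, 6, 0, 1, 2, 3, 9, 0, 1, 2,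
    6, 0, 1, 7, 6, 0, 9, 0, 1, 2, 3, 4, 6, 0, 1, 2, 3, 7, 6, 0, 1, 2, 9, 0, 1, 6, 0, 9]

def pP2 : List ℕ :=
    [0, 1, 2, 3, 4, 5, 4, 3, 2, 1, 0, 6, 0, 1, 2, 3, 4, 7, 6, 0, 1, 2, 3, 9, 0, 1, 2, 3, 4, 5,
    6, 0, 1, 2, 3, 4, 9, 0, 1, 2, 3, 6, 0, 1, 2, 7, 6, 0, 1, 9, 0, 1, 2, 3, 4, 5, 6, 0, 1, 2, 3,
    4, 7, 6, 0, 1, 2, 3, 9, 0, 1, 2, 3, 4, 5, 6, 0, 1, 2, 3, 4, 7, 6, 0, 9, 0, 1, 2, 3, 4, 6, 0,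
    1, 2, 3, 7, 6, 0, 1, 2, 9, 0, 1, 2, 3, 4, 5, 6, 0, 1, 2, 3, 4, 7, 6, 0, 1, 2, 3, 9, 0, 1, 2,
    3, 4, 6, 0, 1, 2, 3, 7, 6, 0, 9, 0, 1, 2, 3, 6, 0, 1, 2, 7, 6, 0, 1, 9, 0, 1, 2, 3, 4, 6, 0,
    1, 2, 3, 7, 6, 0, 1, 2, 9, 0, 1, 6, 0, 9]

def uQ0 : List ℕ :=
    []

def tQ0 : List ℕ :=
    [5, 4, 3, 2, 1, 0, 6, 7, 9, 0, 1, 2, 3, 4, 6, 0, 1, 2, 3, 9, 0, 1, 2, 6, 0, 1, 7, 6, 0, 9,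
    0, 1, 2, 3, 4, 6, 0, 1, 2, 3, 7, 6, 0, 1, 2, 9, 0, 1, 6, 0, 7, 6, 9, 0, 1, 2, 3, 4]

def pQ0 : List ℕ :=
    [5, 4, 3, 2, 1, 0, 6, 7, 9, 0, 1, 2, 3, 4, 6, 0, 1, 2, 3, 9, 0, 1, 2, 6, 0, 1, 7, 6, 0, 9,
    0, 1, 2, 3, 4, 6, 0, 1, 2, 3, 7, 6, 0, 1, 2, 9, 0, 1, 6, 0, 7, 6, 9, 0, 1, 2, 3, 4]

def uQ1 : List ℕ :=
    [4]

def tQ1 : List ℕ :=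
    [4, 5, 4, 3, 2, 1, 0, 6, 7, 9, 0, 1, 2, 3, 4, 6, 0, 1, 2, 3, 9, 0, 1, 2, 6, 0, 1, 7, 6, 0,
    9, 0, 1, 2, 3, 4, 6, 0, 1, 2, 3, 7, 6, 0, 1, 2, 9, 0, 1, 6, 0, 7, 6, 9, 0, 1, 2, 3]

def pQ1 : List ℕ :=
    [5, 4, 3, 2, 1, 0, 6, 7, 9, 0, 1, 2, 3, 4, 5, 6, 0, 1, 2, 3, 4, 9, 0, 1, 2, 3, 6, 0, 1, 2,
    7, 6, 0, 1, 9, 0, 1, 2, 3, 4, 5, 6, 0, 1, 2, 3, 4, 7, 6, 0, 1, 2, 3, 9, 0, 1, 2, 3, 4, 6, 0,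
    1, 2, 3, 7, 6, 0, 9, 0, 1, 2, 3, 4, 6, 0, 1, 2, 3, 7, 6, 0, 1, 2, 9, 0, 1, 2, 3, 4, 6, 0, 1,
    2, 3, 7, 6, 0, 1, 2, 9, 0, 1, 2, 3, 4, 6, 0, 7, 6, 9, 0, 1, 2, 3]

def uQ2 : List ℕ :=
    [3, 4]

def tQ2 : List ℕ :=
    [3, 4, 5, 4, 3, 2, 1, 0, 6, 7, 9, 0, 1, 2, 3, 4, 6, 0, 1, 2, 3, 9, 0, 1, 2, 6, 0, 1, 7, 6,
    0, 9, 0, 1, 2, 3, 4, 6, 0, 1, 2, 3, 7, 6, 0, 1, 2, 9, 0, 1, 6, 0, 7, 6, 9, 0, 1, 2]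

def pQ2 : List ℕ :=
    [5, 4, 3, 2, 1, 0, 6, 7, 9, 0, 1, 2, 3, 4, 5, 6, 0, 1, 2, 3, 4, 9, 0, 1, 2, 3, 6, 0, 1, 2,
    7, 6, 0, 1, 9, 0, 1, 2, 3, 4, 5, 6, 0, 1, 2, 3, 4, 7, 6, 0, 1, 2, 3, 9, 0, 1, 2, 3, 4, 5, 6,
    0, 1, 2, 3, 4, 7, 6, 0, 9, 0, 1, 2, 3, 4, 5, 6, 0, 1, 2, 3, 4, 7, 6, 0, 1, 2, 3, 9, 0, 1, 2,
    3, 4, 5, 6, 0, 1, 2, 3, 4, 7, 6, 0, 1, 2, 3, 9, 0, 1, 2, 3, 4, 6, 0, 1, 2, 3, 7, 6, 0, 1, 2,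
    9, 0, 1, 2, 3, 4, 6, 0, 1, 2, 3, 7, 6, 0, 1, 2, 9, 0, 1, 2, 3, 4, 6, 0, 1, 2, 3, 7, 6, 0, 1,
    2, 9, 0, 1, 2, 3, 6, 0, 7, 6, 9, 0, 1, 2]

def uQ3 : List ℕ :=
    [2, 3, 4]

def tQ3 : List ℕ :=
    [2, 3, 4, 5, 4, 3, 2, 1, 0, 6, 7, 9, 0, 1, 2, 3, 4, 6, 0, 1, 2, 3, 9, 0, 1, 2, 6, 0, 1, 7,
    6, 0, 9, 0, 1, 2, 3, 4, 6, 0, 1, 2, 3, 7, 6, 0, 1, 2, 9, 0, 1, 6, 0, 7, 6, 9, 0, 1]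

def pQ3 : List ℕ :=
    [5, 4, 3, 2, 1, 0, 6, 7, 9, 0, 1, 2, 3, 4, 5, 6, 0, 1, 2, 3, 4, 9, 0, 1, 2, 3, 6, 0, 1, 2,
    7, 6, 0, 1, 9, 0, 1, 2, 3, 4, 5, 6, 0, 1, 2, 3, 4, 7, 6, 0, 1, 2, 3, 9, 0, 1, 2, 3, 4, 5, 6,
    0, 1, 2, 3, 4, 7, 6, 0, 9, 0, 1, 2, 3, 4, 5, 6, 0, 1, 2, 3, 4, 7, 6, 0, 1, 2, 3, 9, 0, 1, 2,
    3, 4, 5, 6, 0, 1, 2, 3, 4, 7, 6, 0, 1, 2, 3, 9, 0, 1, 2, 3, 4, 5, 6, 0, 1, 2, 3, 4, 7, 6, 0,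
    1, 9, 0, 1, 2, 3, 4, 5, 6, 0, 1, 2, 3, 4, 7, 6, 0, 1, 2, 3, 9, 0, 1, 2, 3, 4, 5, 6, 0, 1, 2,
    3, 4, 7, 6, 0, 1, 2, 3, 9, 0, 1, 2, 3, 4, 6, 0, 1, 2, 3, 7, 6, 0, 1, 9, 0, 1, 2, 3, 4, 6, 0,
    1, 2, 3, 7, 6, 0, 1, 2, 9, 0, 1, 2, 3, 4, 6, 0, 1, 2, 3, 7, 6, 0, 1, 2, 9, 0, 1, 2, 6, 0, 7,
    6, 9, 0, 1]

def uQ4 : List ℕ :=
    [1, 2, 3, 4]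

def tQ4 : List ℕ :=
    [1, 2, 3, 4, 5, 4, 3, 2, 1, 0, 6, 7, 9, 0, 1, 2, 3, 4, 6, 0, 1, 2, 3, 9, 0, 1, 2, 6, 0, 1,
    7, 6, 0, 9, 0, 1, 2, 3, 4, 6, 0, 1, 2, 3, 7, 6, 0, 1, 2, 9, 0, 1, 6, 0, 7, 6, 9, 0]

def pQ4 : List ℕ :=
    [5, 4, 3, 2, 1, 0, 6, 7, 9, 0, 1, 2, 3, 4, 5, 6, 0, 1, 2, 3, 4, 9, 0, 1, 2, 3, 6, 0, 1, 2,
    7, 6, 0, 1, 9, 0, 1, 2, 3, 4, 5, 6, 0, 1, 2, 3, 4, 7, 6, 0, 1, 2, 3, 9, 0, 1, 2, 3, 4, 5, 6,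
    0, 1, 2, 3, 4, 7, 6, 0, 9, 0, 1, 2, 3, 4, 5, 6, 0, 1, 2, 3, 4, 7, 6, 0, 1, 2, 3, 9, 0, 1, 2,
    3, 4, 5, 6, 0, 1, 2, 3, 4, 7, 6, 0, 1, 2, 3, 9, 0, 1, 2, 3, 4, 5, 6, 0, 1, 2, 3, 4, 7, 6, 0,
    9, 0, 1, 2, 3, 4, 5, 6, 0, 1, 2, 3, 4, 7, 6, 0, 1, 2, 3, 9, 0, 1, 2, 3, 4, 5, 6, 0, 1, 2, 3,
    4, 7, 6, 0, 1, 2, 3, 9, 0, 1, 2, 3, 4, 5, 6, 0, 1, 2, 3, 4, 7, 6, 0, 9, 0, 1, 2, 3, 4, 5, 6,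
    0, 1, 2, 3, 4, 7, 6, 0, 1, 2, 3, 9, 0, 1, 2, 3, 4, 5, 6, 0, 1, 2, 3, 4, 7, 6, 0, 1, 2, 3, 9,
    0, 1, 2, 3, 4, 6, 0, 1, 2, 3, 7, 6, 0, 9, 0, 1, 2, 3, 4, 6, 0, 1, 2, 3, 7, 6, 0, 1, 2, 9, 0,
    1, 2, 3, 4, 6, 0, 1, 2, 3, 7, 6, 0, 1, 2, 9, 0, 1, 6, 0, 7, 6, 9, 0]

def uQ5 : List ℕ :=
    [7, 6, 0, 1, 2, 3, 4]

def tQ5 : List ℕ :=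
    [9, 0, 1, 2, 3, 4, 6, 0, 1, 2, 3, 9, 0, 1, 2, 6, 0, 1, 7, 6, 0, 9, 0, 1, 2, 3, 4, 5, 6, 0,
    1, 2, 3, 4, 7, 6, 0, 1, 2, 3, 9, 0, 1, 2, 6, 0, 1, 7, 6, 9, 0, 1, 2, 3, 4, 5, 6, 7]

def pQ5 : List ℕ :=
    [5, 4, 3, 2, 1, 0, 6, 7, 9, 0, 1, 2, 3, 4, 5, 6, 0, 1, 2, 3, 4, 7, 9, 0, 1, 2, 3, 6, 0, 1,
    2, 7, 6, 0, 1, 9, 0, 1, 2, 3, 4, 5, 6, 0, 1, 2, 3, 4, 7, 6, 0, 1, 2, 3, 9, 0, 1, 2, 3, 4, 5,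
    6, 0, 1, 2, 3, 4, 7, 6, 0, 9, 0, 1, 2, 3, 4, 5, 6, 0, 1, 2, 3, 7, 6, 0, 1, 2, 9, 0, 1, 2, 3,
    4, 5, 6, 0, 1, 2, 3, 4, 7, 6, 0, 1, 2, 3, 9, 0, 1, 2, 3, 4, 5, 6, 0, 1, 2, 3, 4, 7, 6, 0, 9,
    0, 1, 2, 3, 4, 5, 6, 0, 1, 2, 3, 7, 6, 0, 1, 9, 0, 1, 2, 3, 4, 5, 6, 0, 1, 2, 3, 4, 7, 6, 0,
    1, 2, 3, 9, 0, 1, 2, 3, 4, 5, 6, 0, 1, 2, 3, 4, 7, 6, 0, 9, 0, 1, 2, 3, 4, 6, 0, 1, 2, 7, 6,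
    0, 1, 9, 0, 1, 2, 3, 4, 6, 0, 1, 2, 3, 7, 6, 0, 1, 2, 9, 0, 1, 2, 3, 4, 6, 0, 1, 2, 3, 7, 9,
    0, 1, 2, 6, 0, 1, 7, 6, 9, 0, 6, 7]

def uQ6 : List ℕ :=
    [6, 0, 1, 2, 3, 4]

def tQ6 : List ℕ :=
    [7, 9, 0, 1, 2, 3, 4, 6, 0, 1, 2, 3, 9, 0, 1, 2, 6, 0, 1, 7, 6, 0, 9, 0, 1, 2, 3, 4, 5, 6,
    0, 1, 2, 3, 4, 7, 6, 0, 1, 2, 3, 9, 0, 1, 2, 6, 0, 1, 7, 6, 9, 0, 1, 2, 3, 4, 5, 6]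

def pQ6 : List ℕ :=
    [5, 4, 3, 2, 1, 0, 6, 7, 9, 0, 1, 2, 3, 4, 5, 6, 0, 1, 2, 3, 4, 7, 6, 0, 1, 2, 3, 9, 0, 1,
    2, 3, 6, 0, 1, 2, 7, 6, 0, 1, 9, 0, 1, 2, 3, 4, 5, 6, 0, 1, 2, 3, 4, 7, 6, 0, 1, 2, 3, 9, 0,
    1, 2, 3, 4, 5, 6, 0, 1, 2, 3, 4, 7, 6, 0, 9, 0, 1, 2, 3, 4, 5, 6, 0, 1, 2, 3, 4, 7, 6, 0, 1,
    2, 9, 0, 1, 2, 3, 4, 5, 6, 0, 1, 2, 3, 4, 7, 6, 0, 1, 2, 3, 9, 0, 1, 2, 3, 4, 5, 6, 0, 1, 2,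
    3, 4, 7, 6, 0, 9, 0, 1, 2, 3, 4, 6, 0, 1, 2, 3, 7, 6, 0, 1, 2, 9, 0, 1, 2, 3, 4, 6, 0, 1, 2,
    3, 7, 6, 0, 1, 2, 9, 0, 1, 2, 3, 4, 6, 0, 1, 2, 3, 7, 6, 9, 0, 1, 2, 3, 6, 0, 1, 7, 6, 0, 9,
    0, 1, 2, 6, 0, 1, 7, 6, 0]

def uQ7 : List ℕ :=
    [0, 1, 2, 3, 4]

def tQ7 : List ℕ :=
    [6, 7, 9, 0, 1, 2, 3, 4, 6, 0, 1, 2, 3, 9, 0, 1, 2, 6, 0, 1, 7, 6, 0, 9, 0, 1, 2, 3, 4, 5,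
    6, 0, 1, 2, 3, 4, 7, 6, 0, 1, 2, 3, 9, 0, 1, 2, 6, 0, 1, 7, 6, 9, 0, 1, 2, 3, 4, 5]

def pQ7 : List ℕ :=
    [5, 4, 3, 2, 1, 0, 6, 7, 9, 0, 1, 2, 3, 4, 5, 6, 0, 1, 2, 3, 4, 7, 6, 0, 1, 2, 3, 9, 0, 1,
    2, 3, 4, 5, 6, 0, 1, 2, 3, 4, 7, 6, 0, 9, 0, 1, 2, 3, 4, 5, 6, 0, 1, 2, 3, 4, 7, 6, 0, 1, 2,
    3, 9, 0, 1, 2, 3, 4, 5, 6, 0, 1, 2, 3, 4, 7, 6, 0, 1, 2, 3, 9, 0, 1, 2, 3, 4, 6, 0, 1, 2, 3,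
    7, 6, 0, 1, 9, 0, 1, 2, 3, 4, 5, 6, 0, 1, 2, 3, 4, 7, 6, 0, 1, 2, 3, 9, 0, 1, 2, 3, 4, 5, 6,
    0, 1, 2, 3, 4, 7, 6, 0, 1, 2, 3, 9, 0, 1, 2, 3, 6, 0, 1, 2, 7, 6, 0, 1, 9, 0, 1, 2, 3, 4, 6,
    0, 1, 2, 3, 7, 6, 0, 1, 2, 9, 0, 1, 6, 0]

def uCube : List ℕ :=
    [0, 1, 2, 3, 4, 6, 0, 1, 2, 3, 7, 6, 0, 1, 2, 9, 0, 1, 6, 0, 7, 6, 9, 0, 1, 2, 3, 4]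

end CfsgLib.CoxWord.Y555
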